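import Groth.Prelude.Def_W4c1limliniiiiRamP1
import Mathlib

/-!
# Wronskians of pencils in positive characteristic
-/

set_option autoImplicit false

universe u

namespace RamP129

open Polynomial

/-- second-order equation satisfied by both members of a pencil -/
theorem ode {R : Type u} [CommRing R] (F G : R[X]) :
    (wronskian F G * derivative (derivative G) - derivative (wronskian F G) * derivative G =
      (derivative (derivative F) * derivative G - derivative F * derivative (derivative G)) * G) ∧
    (wronskian F G * derivative (derivative F) - derivative (wronskian F G) * derivative F =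
      (derivative (derivative F) * derivative G - derivative F * derivative (derivative G)) * F) := by
  simp only [wronskian, derivative_sub, derivative_mul]
  constructor <;> ring

theorem X_mul_derivative_coeff {R : Type u} [CommRing R] (f : R[X]) (j : ℕ) :
    (X * derivative f).coeff j = (j : R) * f.coeff j := by
  cases j with
  | zero => simp
  | succ n => rw [coeff_X_mul, coeff_derivative]; push_cast; ring

theorem XX_mul_derivative_coeff {R : Type u} [CommRing R] (f : R[X]) (j : ℕ) :
    (X ^ 2 * derivative (derivative f)).coeff j = ((j : R) * ((j : R) - 1)) * f.coeff j := by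
  have h : X ^ 2 * derivative (derivative f) =
      X * derivative (X * derivative f) - X * derivative f := by
    simp only [derivative_mul, derivative_X]; ring
  rw [h, coeff_sub, X_mul_derivative_coeff, X_mul_derivative_coeff]; ring

theorem natDegree_X_mul_derivative_le {R : Type u} [CommRing R] (f : R[X]) :
    (X * derivative f).natDegree ≤ f.natDegree :=
  natDegree_le_iff_coeff_eq_zero.2 fun j hj => by
    rw [X_mul_derivative_coeff, coeff_eq_zero_of_natDegree_lt hj, mul_zero]

theorem natDegree_XX_mul_derivative_le {R : Type u} [CommRing R] (f : R[X]) :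
    (X ^ 2 * derivative (derivative f)).natDegree ≤ f.natDegree :=
  natDegree_le_iff_coeff_eq_zero.2 fun j hj => by
    rw [XX_mul_derivative_coeff, coeff_eq_zero_of_natDegree_lt hj, mul_zero]

theorem natDegree_euler_le {R : Type u} [CommRing R] {T s : R[X]} {M j : ℕ}
    (hT : T.natDegree ≤ M) (hs : s.natDegree ≤ j) :
    (X ^ 2 * (T * derivative (derivative s) - derivative T * derivative s)).natDegree ≤ M + j := by
  rw [show X ^ 2 * (T * derivative (derivative s) - derivative T * derivative s) =
    T * (X ^ 2 * derivative (derivative s)) - (X * derivative T) * (X * derivative s) by ring]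
  exact (natDegree_sub_le _ _).trans (max_le
    (natDegree_mul_le.trans (Nat.add_le_add hT ((natDegree_XX_mul_derivative_le s).trans hs)))
    (natDegree_mul_le.trans (Nat.add_le_add ((natDegree_X_mul_derivative_le T).trans hT)
      ((natDegree_X_mul_derivative_le s).trans hs))))

theorem coeff_euler {R : Type u} [CommRing R] {T s : R[X]} {M j : ℕ}
    (hT : T.natDegree ≤ M) (hs : s.natDegree ≤ j) :
    (X ^ 2 * (T * derivative (derivative s) - derivative T * derivative s)).coeff (M + j) =
      T.coeff M * s.coeff j * ((j : R) * ((j : R) - 1) - (M : R) * (j : R)) := by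
  rw [show X ^ 2 * (T * derivative (derivative s) - derivative T * derivative s) =
    T * (X ^ 2 * derivative (derivative s)) - (X * derivative T) * (X * derivative s) by ring,
    coeff_sub,
    coeff_mul_add_eq_of_natDegree_le hT ((natDegree_XX_mul_derivative_le s).trans hs),
    coeff_mul_add_eq_of_natDegree_le ((natDegree_X_mul_derivative_le T).trans hT)
      ((natDegree_X_mul_derivative_le s).trans hs),
    XX_mul_derivative_coeff, X_mul_derivative_coeff, X_mul_derivative_coeff]
  ring

theorem derivative_pow_mul {R : Type u} [CommRing R] (P : R) (a : ℕ) (v : R[X]) :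
    (X - C P) * derivative ((X - C P) ^ a * v) =
      (X - C P) ^ a * (C (a : R) * v + (X - C P) * derivative v) := by
  cases a with
  | zero => simp
  | succ n =>
    rw [derivative_mul, derivative_pow_succ, derivative_sub, derivative_X, derivative_C]
    push_cast [map_add, map_one]
    ring

/-- indicial equation at a point -/
theorem indicial {k : Type u} [Field k] {P : k} {T c R u₁ v : k[X]} {w a : ℕ}
    (hT : T = (X - C P) ^ w * u₁) (hu : u₁.eval P ≠ 0) (hc : c = (X - C P) ^ a * v)
    (hv : v.eval P ≠ 0) (hR : (X - C P) ^ w ∣ (X - C P) * R)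
    (h : T * derivative (derivative c) - derivative T * derivative c = R * c) :
    (a : k) * ((a : k) - 1 - (w : k)) = 0 := by
  obtain ⟨R₁, hR₁⟩ := hR
  set Y : k[X] := X - C P with hY
  set Z₁ : k[X] := C (a : k) * v + Y * derivative v with hZ₁
  set Z₂ : k[X] := C (a : k) * Z₁ + Y * derivative Z₁ with hZ₂
  have h1 : Y * derivative c = Y ^ a * Z₁ := by rw [hc]; exact derivative_pow_mul P a v
  have h2 : Y * derivative (Y * derivative c) = Y ^ a * Z₂ := by
    rw [h1]; exact derivative_pow_mul P a Z₁
  have hYd : derivative Y = 1 := by simp [hY]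
  rw [derivative_mul, hYd, one_mul] at h2
  have hT1 : Y * derivative T = Y ^ w * (C (w : k) * u₁ + Y * derivative u₁) := by
    rw [hT]; exact derivative_pow_mul P w u₁
  set U : k[X] := C (w : k) * u₁ + Y * derivative u₁ with hU
  have key : Y ^ (w + a) * (u₁ * (Z₂ - Z₁) - U * Z₁) = Y ^ (w + a) * (Y * (R₁ * v)) := by
    rw [pow_add]
    linear_combination (Y ^ 2) * h - (derivative (derivative c) * Y ^ 2) * hT
      + (Y * derivative c) * hT1 + (Y ^ w * U) * h1 + (-(Y ^ w * u₁)) * h2
      + (Y ^ w * u₁) * h1 + (Y * c) * hR₁ + (Y * (Y ^ w * R₁)) * hc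
  have := congrArg (eval P) (mul_left_cancel₀ (pow_ne_zero _ (X_sub_C_ne_zero P)) key)
  simp [hY, hZ₁, hZ₂, hU] at this
  have h3 : u₁.eval P * v.eval P * ((a : k) * ((a : k) - 1 - (w : k))) = 0 := by
    linear_combination this
  simpa [hu, hv] using h3

/-- a polynomial all of whose coefficients at indices `jp - 1` vanish is a derivative -/
theorem exists_antideriv {k : Type u} [Field k] (p : ℕ) [CharP k p] (S : k[X])
    (hS : ∀ j, p ∣ j + 1 → S.coeff j = 0) : ∃ M : k[X], derivative M = S := by
  refine ⟨∑ j ∈ Finset.range (S.natDegree + 1), C (S.coeff j / ((j : k) + 1)) * X ^ (j + 1), ?_⟩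
  conv_rhs => rw [S.as_sum_range_C_mul_X_pow]
  rw [derivative_sum]
  refine Finset.sum_congr rfl fun j _ => ?_
  rw [derivative_C_mul_X_pow]
  simp only [Nat.cast_add, Nat.cast_one, Nat.add_sub_cancel]
  by_cases hj : ((j : k) + 1) = 0
  · have : p ∣ j + 1 := (CharP.cast_eq_zero_iff k p (j + 1)).1 (by simpa using hj)
    simp [hS j this]
  · rw [div_mul_cancel₀ _ hj]

theorem coeff_derivative_eq_zero {R : Type u} [CommRing R] (p : ℕ) [CharP R p] (M : R[X]) (j : ℕ)
    (hj : p ∣ j + 1) : (derivative M).coeff j = 0 := by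
  rw [coeff_derivative, ← Nat.cast_succ, (CharP.cast_eq_zero_iff R p _).2 hj, mul_zero]

/-- exactness can be cancelled by a `p`-th power -/
theorem exact_of_mul_pow {k : Type u} [Field k] (p : ℕ) [Fact p.Prime] [CharP k p] (S z : k[X])
    (hz : z ≠ 0) (h : ∀ j, p ∣ j + 1 → (S * z ^ p).coeff j = 0) :
    ∀ j, p ∣ j + 1 → S.coeff j = 0 := by
  have hp : p ≠ 0 := (Fact.out : p.Prime).ne_zero
  have hzp : z ^ p = expand k p (z.map (frobenius k p)) := by
    rw [← map_frobenius_expand p z, map_expand]
  have h0 : contract p (X * (S * z ^ p)) = 0 := by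
    ext j
    rw [coeff_contract hp, coeff_zero]
    cases hjp : j * p with
    | zero => simp
    | succ n =>
      rw [coeff_X_mul]
      exact h n (Dvd.intro_left j hjp)
  rw [← mul_assoc, hzp, contract_mul_expand hp] at h0
  have hmap : z.map (frobenius k p) ≠ 0 := (map_ne_zero hz)
  have h1 : contract p (X * S) = 0 := (mul_eq_zero.1 h0).resolve_right hmap
  rintro j ⟨q, hq⟩
  have := congrArg (fun f => f.coeff q) h1
  simp only [coeff_contract hp, coeff_zero] at this
  rwa [mul_comm q p, ← hq, coeff_X_mul] at this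

/-- split off a `p`-th power -/
theorem exists_strip {k : Type u} [Field k] (p : ℕ) (hp : 0 < p) (c₀ : k[X]) (h : c₀ ≠ 0) :
    ∃ z c : k[X], c₀ = z ^ p * c ∧ ∀ a, c.rootMultiplicity a < p := by
  induction hn : c₀.natDegree using Nat.strong_induction_on generalizing c₀ with
  | _ n ih =>
    by_cases hall : ∀ a, c₀.rootMultiplicity a < p
    · exact ⟨1, c₀, by simp, hall⟩
    · push Not at hall
      obtain ⟨a, ha⟩ := hall
      obtain ⟨c₁, hc₁⟩ := (le_rootMultiplicity_iff h).1 ha
      have hc₁0 : c₁ ≠ 0 := by rintro rfl; simp at hc₁; exact h hc₁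
      have hdeg : c₁.natDegree < n := by
        rw [← hn, hc₁, natDegree_mul (pow_ne_zero _ (X_sub_C_ne_zero a)) hc₁0, natDegree_pow,
          natDegree_X_sub_C]
        omega
      obtain ⟨z, c, hzc, hc⟩ := ih _ hdeg c₁ hc₁0 rfl
      exact ⟨(X - C a) * z, c, by rw [hc₁, hzc, mul_pow]; ring, hc⟩

/-- local form of a polynomial whose derivative vanishes to high order -/
theorem exists_local_root {k : Type u} [Field k] [IsAlgClosed k] (p : ℕ) [Fact p.Prime] [CharP k p]
    (M : k[X]) (P : k) (N : ℕ) (h : (X - C P) ^ N ∣ (X - C P) * derivative M) :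
    ∃ γ : k[X], (X - C P) ^ N ∣ M - γ ^ p := by
  have hp : 0 < p := (Fact.out : p.Prime).pos
  set f := taylor P M with hf
  have hd : X ^ N ∣ X * derivative f := by
    obtain ⟨r, hr⟩ := h
    refine ⟨taylor P r, ?_⟩
    have := congrArg (taylor P) hr
    simp only [taylor_apply, mul_comp, pow_comp, sub_comp, X_comp, C_comp, add_sub_cancel_right]
      at this
    rw [hf, taylor_apply, derivative_comp]
    simpa [taylor_apply] using this
  choose r hr using fun a : k => IsAlgClosed.exists_pow_nat_eq a hp
  refine ⟨taylor (-P) (∑ j ∈ Finset.range N, C (r (f.coeff (p * j))) * X ^ j), ?_⟩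
  have hl : X ^ N ∣ f - (∑ j ∈ Finset.range N, C (r (f.coeff (p * j))) * X ^ j) ^ p := by
    rw [X_pow_dvd_iff]
    intro i hi
    rw [sum_pow_char, coeff_sub, finsetSum_coeff]
    simp only [mul_pow, ← C_pow, hr, ← pow_mul, coeff_C_mul, coeff_X_pow]
    by_cases hpi : p ∣ i
    · obtain ⟨q, rfl⟩ := hpi
      rw [Finset.sum_eq_single q]
      · simp [mul_comm q p]
      · intro b _ hb
        rw [if_neg, mul_zero]
        intro heq
        rw [mul_comm b p] at heq
        exact hb (Nat.eq_of_mul_eq_mul_left hp heq.symm)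
      · intro hq
        exfalso; apply hq; rw [Finset.mem_range]
        exact lt_of_le_of_lt (Nat.le_mul_of_pos_left q hp) hi
    · rw [Finset.sum_eq_zero fun b _ => by
        rw [if_neg, mul_zero]; intro heq; exact hpi ⟨b, by rw [heq, mul_comm]⟩, sub_zero]
      have := (X_pow_dvd_iff.1 hd) i hi
      rw [X_mul_derivative_coeff] at this
      exact (mul_eq_zero.1 this).resolve_left fun h0 => hpi ((CharP.cast_eq_zero_iff k p i).1 h0)
  obtain ⟨s, hs⟩ := hl
  refine ⟨taylor (-P) s, ?_⟩
  have := congrArg (taylor (-P)) hs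
  simpa [hf, taylor_taylor, taylor_apply, mul_comp, sub_comp, pow_comp, comp_assoc,
    sub_eq_add_neg] using this

/-- remove a common `p`-th power correction -/
theorem exists_pow_correction {k : Type u} [Field k] [IsAlgClosed k] (p : ℕ) [Fact p.Prime]
    [CharP k p] (c M : k[X]) (hc : c ≠ 0)
    (h : ∀ a, (X - C a) ^ ((p - 1) * c.rootMultiplicity a) ∣ (X - C a) * derivative M) :
    ∃ γ : k[X], c ^ (p - 1) ∣ M - γ ^ p := by
  classical
  choose g hg using fun a => exists_local_root p M a _ (h a)
  let I : c.roots.toFinset → Ideal k[X] :=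
    fun a => Ideal.span {(X - C (a : k)) ^ c.rootMultiplicity (a : k)}
  have hco : ∀ a b : c.roots.toFinset, a ≠ b →
      IsCoprime (X - C (a : k)) (X - C (b : k)) := fun a b hab =>
    pairwise_coprime_X_sub_C (s := fun x : c.roots.toFinset => (x : k))
      (fun x y hxy => Subtype.ext hxy) hab
  obtain ⟨γ, hγ⟩ := Ideal.exists_forall_sub_mem_ideal (I := I)
    (fun a b hab => Ideal.isCoprime_span_singleton_iff _ _ |>.2 ((hco a b hab).pow))
    (fun a => g (a : k))
  refine ⟨γ, ?_⟩
  have hprod : C c.leadingCoeff * ∏ a ∈ c.roots.toFinset, (X - C a) ^ c.rootMultiplicity a = c := by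
    conv_rhs => rw [(IsAlgClosed.splits c).eq_prod_roots]
    rw [Finset.prod_multiset_map_count]
    simp [count_roots]
  rw [← hprod, mul_pow, ← Finset.prod_pow]
  refine (IsUnit.mul_left_dvd ((isUnit_C.2 (leadingCoeff_ne_zero.2 hc).isUnit).pow _)).2 ?_
  refine Finset.prod_dvd_of_coprime (fun a ha b hb hab => ?_) fun a ha => ?_
  · exact ((pairwise_coprime_X_sub_C (s := fun x : k => x) Function.injective_id hab).pow).pow
  · have h1 := Ideal.mem_span_singleton.1 (hγ ⟨a, ha⟩)
    rw [← pow_mul, mul_comm]
    have h2 : (X - C a) ^ ((p - 1) * c.rootMultiplicity a) ∣ γ ^ p - g a ^ p := by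
      rw [← sub_pow_char]
      refine (pow_dvd_pow _ ?_).trans ((pow_mul _ _ _).dvd.trans (pow_dvd_pow_of_dvd h1 p))
      rw [mul_comm]; exact Nat.mul_le_mul_left _ (Nat.sub_le p 1)
    have := dvd_sub (hg a) h2
    simpa [sub_sub_sub_cancel_right] using this

end RamP129
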