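import Groth.Agent.Lib.RamP1_29.Schubert

/-!
# Finiteness of pencils with prescribed Wronskian
-/

set_option autoImplicit false

universe u w

namespace RamP129

section Slice

open MvPolynomial

variable {k : Type u} [Field k] [IsAlgClosed k] {σ : Type w} [Fintype σ]

theorem homogeneousComponent_mul_of_isHomogeneous {f g : MvPolynomial σ k} {a : ℕ}
    (hg : g.IsHomogeneous a) (n : ℕ) :
    homogeneousComponent n (f * g) = if a ≤ n then homogeneousComponent (n - a) f * g else 0 := by
  classical
  conv_lhs => rw [← sum_homogeneousComponent f, Finset.sum_mul, map_sum]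
  have h : ∀ i, homogeneousComponent n (homogeneousComponent i f * g) =
      if i + a = n then homogeneousComponent i f * g else 0 := fun i => by
    rw [homogeneousComponent_of_mem ((homogeneousComponent_isHomogeneous i f).mul hg)]
    exact if_congr eq_comm rfl rfl
  simp only [h]
  by_cases ha : a ≤ n
  · rw [if_pos ha, Finset.sum_eq_single (n - a)]
    · rw [if_pos (by omega)]
    · intro i _ hi; rw [if_neg (by omega)]
    · intro hi
      rw [if_pos (by omega), homogeneousComponent_eq_zero _ _ (by simp at hi; omega), zero_mul]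
  · rw [if_neg ha]
    exact Finset.sum_eq_zero fun i _ => if_neg (by omega)

/-- the affine slice of a cone meeting a hyperplane only at the origin is finite -/
theorem finite_slice (gens : Set (MvPolynomial σ k)) (hg : ∀ g ∈ gens, ∃ a, g.IsHomogeneous a)
    (lam : MvPolynomial σ k) (hlam : lam.IsHomogeneous 1)
    (h0 : ∀ v : σ → k, (∀ g ∈ gens, eval v g = 0) → eval v lam = 0 → v = 0) :
    {v : σ → k | (∀ g ∈ gens, eval v g = 0) ∧ eval v lam = 1}.Finite := by
  classical
  set I := Ideal.span gens with hI
  set J := I ⊔ Ideal.span {lam} with hJ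
  have hpow : ∀ s : σ, ∃ N, (X s : MvPolynomial σ k) ^ N ∈ J := by
    intro s
    have hm : (X s : MvPolynomial σ k) ∈ vanishingIdeal k (zeroLocus k J) := by
      rw [mem_vanishingIdeal_iff]
      intro v hv
      rw [mem_zeroLocus_iff] at hv
      have : v = 0 := h0 v
        (fun g hg' => by simpa [aeval_def, eval₂_id] using hv g (le_sup_left (a := I) (Ideal.subset_span hg')))
        (by simpa [aeval_def, eval₂_id] using hv lam (le_sup_right (a := I) (Ideal.mem_span_singleton_self lam)))
      simp [this]
    rw [vanishingIdeal_zeroLocus_eq_radical] at hm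
    exact hm
  choose N hN using hpow
  set K := I ⊔ Ideal.span {lam - 1} with hK
  set Q := MvPolynomial σ k ⧸ K
  set π := Ideal.Quotient.mkₐ k K
  set B := ∑ s, N s + 1 with hB
  set low := Submodule.span k ((fun m : σ →₀ ℕ => π (monomial m 1)) '' {m | m.degree < B}) with hlow
  -- homogeneous components of `I`
  have hcomp : ∀ x ∈ I, ∀ n, homogeneousComponent n x ∈ I := by
    intro x hx n
    induction hx using Submodule.span_induction generalizing n with
    | mem g hg' =>
      obtain ⟨a, ha⟩ := hg g hg'
      rw [homogeneousComponent_of_mem ha]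
      split_ifs
      · exact Ideal.subset_span hg'
      · exact I.zero_mem
    | zero => simp
    | add x y _ _ hx hy => rw [map_add]; exact I.add_mem (hx n) (hy n)
    | smul r x _ hx =>
      rw [smul_eq_mul, ← sum_homogeneousComponent r, Finset.sum_mul, map_sum]
      refine Submodule.sum_mem _ fun i _ => ?_
      rw [mul_comm, homogeneousComponent_mul_of_isHomogeneous
        (homogeneousComponent_isHomogeneous i r)]
      split_ifs
      · exact I.mul_mem_right _ (hx _)
      · exact I.zero_mem
  have key : ∀ n, ∀ m : σ →₀ ℕ, m.degree = n → π (monomial m 1) ∈ low := by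
    intro n
    induction n using Nat.strong_induction_on with
    | _ n ih =>
    intro m hm
    by_cases hlt : m.degree < B
    · exact Submodule.subset_span ⟨m, hlt, rfl⟩
    push Not at hlt
    obtain ⟨s, hs⟩ : ∃ s, N s ≤ m s := by
      by_contra hall
      push Not at hall
      have h1 : ∑ i, m i ≤ ∑ i, N i := Finset.sum_le_sum fun i _ => (hall i).le
      rw [Finsupp.degree_eq_sum] at hlt
      omega
    have hmem : monomial m (1 : k) ∈ J := by
      have hdiv : (X s : MvPolynomial σ k) ^ N s ∣ monomial m 1 := by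
        rw [X_pow_eq_monomial, monomial_dvd_monomial]
        exact ⟨Or.inr (Finsupp.single_le_iff.2 hs), dvd_rfl⟩
      obtain ⟨c, hc⟩ := hdiv
      rw [hc]; exact J.mul_mem_right _ (hN s)
    obtain ⟨i, hi, j, hj, hij⟩ := Submodule.mem_sup.1 hmem
    obtain ⟨h, rfl⟩ := Ideal.mem_span_singleton'.1 hj
    have h1 := congrArg (homogeneousComponent n) hij
    rw [map_add, homogeneousComponent_mul_of_isHomogeneous hlam,
      homogeneousComponent_eq_self (isHomogeneous_monomial 1 hm), if_pos (by omega)] at h1
    have hπ : π (monomial m 1) = π (homogeneousComponent (n - 1) h) := by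
      rw [← h1, map_add, map_mul]
      have hi0 : π (homogeneousComponent n i) = 0 :=
        Ideal.Quotient.eq_zero_iff_mem.2 (le_sup_left (a := I) (hcomp i hi n))
      have hl : π lam = 1 := by
        rw [← map_one π]
        exact Ideal.Quotient.eq.2 (le_sup_right (a := I) (Ideal.mem_span_singleton_self _))
      rw [hi0, hl, zero_add, mul_one]
    rw [hπ, (homogeneousComponent (n - 1) h).as_sum, map_sum]
    refine Submodule.sum_mem _ fun m' hm' => ?_
    rw [← mul_one (coeff m' _), ← smul_eq_mul, ← smul_monomial, map_smul]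
    refine low.smul_mem _ (ih (n - 1) (by omega) m' ?_)
    rw [support_homogeneousComponent, Finset.mem_filter] at hm'
    exact hm'.2
  have htop : low = ⊤ := by
    rw [eq_top_iff]
    rintro q -
    obtain ⟨f, rfl⟩ := Ideal.Quotient.mkₐ_surjective k K q
    rw [f.as_sum, map_sum]
    refine Submodule.sum_mem _ fun m _ => ?_
    rw [← mul_one (coeff m _), ← smul_eq_mul, ← smul_monomial, map_smul]
    exact low.smul_mem _ (key _ m rfl)
  haveI : Module.Finite k Q := by
    refine ⟨?_⟩
    rw [← htop, hlow]
    refine Submodule.fg_span (Set.Finite.image _ ?_)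
    refine Set.Finite.subset (Set.finite_range
      (fun f : σ → Fin B => Finsupp.equivFunOnFinite.symm fun s => (f s : ℕ))) ?_
    intro m hm
    refine ⟨fun s => ⟨m s, lt_of_le_of_lt (Finsupp.le_degree s m) hm⟩, ?_⟩
    ext s; simp
  have hvan : ∀ v ∈ {v : σ → k | (∀ g ∈ gens, eval v g = 0) ∧ eval v lam = 1},
      ∀ x ∈ K, aeval v x = (0 : k) := by
    rintro v ⟨hv1, hv2⟩ x hx
    refine RingHom.mem_ker.1 ((sup_le ?_ ?_ : K ≤ RingHom.ker (aeval v)) hx)
    · rw [hI, Ideal.span_le]; intro g hg'
      simpa [aeval_def, eval₂_id, RingHom.mem_ker] using hv1 g hg'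
    · rw [Ideal.span_singleton_le_iff_mem, RingHom.mem_ker, map_sub, map_one]
      simpa [aeval_def, eval₂_id, sub_eq_zero] using hv2
  refine Set.Finite.subset (Set.finite_range (fun φ : Q →ₐ[k] k => fun s => φ (π (X s)))) ?_
  intro v hv
  refine ⟨Ideal.Quotient.liftₐ K (aeval v) (hvan v hv), ?_⟩
  funext s
  exact (Ideal.Quotient.liftₐ_apply _ _ _ _).trans (by simp [π])

end Slice

open Polynomial

variable {k : Type u} [Field k]

/-- Plücker coordinates of a pair -/
def pl (F G : k[X]) (d : ℕ) : Fin (d + 1) × Fin (d + 1) → k :=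
  fun ab => F.coeff ab.1 * G.coeff ab.2 - F.coeff ab.2 * G.coeff ab.1

/-- the Wronskian as a linear function of the coordinates -/
noncomputable def wlin (d : ℕ) (m : ℕ) : MvPolynomial (Fin (d + 1) × Fin (d + 1)) k :=
  ∑ i : Fin (d + 1), ∑ j : Fin (d + 1),
    if i < j ∧ (i : ℕ) + j = m + 1 then
      MvPolynomial.C ((j : k) - (i : k)) * MvPolynomial.X (i, j) else 0

theorem wlin_isHomogeneous (d m : ℕ) : (wlin (k := k) d m).IsHomogeneous 1 := by
  classical
  refine MvPolynomial.IsHomogeneous.sum _ _ _ fun i _ => MvPolynomial.IsHomogeneous.sum _ _ _ fun j _ => ?_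
  split_ifs
  · exact (MvPolynomial.isHomogeneous_X k (i, j)).C_mul _
  · exact MvPolynomial.isHomogeneous_zero _ _ _

theorem coeff_wronskian {d : ℕ} {F G : k[X]} (hF : F.natDegree ≤ d) (hG : G.natDegree ≤ d) (m : ℕ) :
    (wronskian F G).coeff m = MvPolynomial.eval (pl F G d) (wlin d m) := by
  classical
  set a : Fin (d + 1) → Fin (d + 1) → k := fun i j =>
    if (i : ℕ) + j = m + 1 then F.coeff i * G.coeff j * ((j : k) - (i : k)) else 0 with ha
  have hFs := F.as_sum_range' (d + 1) (by omega)
  have hGs := G.as_sum_range' (d + 1) (by omega)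
  rw [Finset.sum_range] at hFs hGs
  have hlhs : (wronskian F G).coeff m = ∑ i : Fin (d + 1), ∑ j : Fin (d + 1), a i j := by
    have h : (X * wronskian F G).coeff (m + 1) = (wronskian F G).coeff m := coeff_X_mul _ _
    rw [← h, show X * wronskian F G = F * (X * derivative G) - (X * derivative F) * G by
      rw [wronskian]; ring]
    conv_lhs => rw [hFs, hGs]
    simp only [derivative_sum, derivative_monomial, Finset.mul_sum, Finset.sum_mul]
    rw [coeff_sub, finsetSum_coeff, finsetSum_coeff]
    simp only [finsetSum_coeff]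
    rw [Finset.sum_comm]
    conv_lhs => arg 2; rw [Finset.sum_comm]
    rw [← Finset.sum_sub_distrib]
    refine Finset.sum_congr rfl fun i _ => ?_
    rw [← Finset.sum_sub_distrib]
    refine Finset.sum_congr rfl fun j _ => ?_
    have hz : ∀ (i : ℕ) (c : k), (X : k[X]) * monomial (i - 1) (c * (i : k)) = monomial i (c * (i : k)) := by
      intro i c
      cases i with
      | zero => simp
      | succ n => rw [X_mul_monomial]; rfl
    rw [hz, hz, monomial_mul_monomial, monomial_mul_monomial, coeff_monomial, coeff_monomial, ha]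
    simp only
    split_ifs with h1 <;> ring
  rw [hlhs, wlin]
  simp only [map_sum, apply_ite (MvPolynomial.eval (pl F G d)), map_mul, MvPolynomial.eval_C,
    MvPolynomial.eval_X, map_zero, pl]
  have hsplit : ∀ i j : Fin (d + 1), a i j =
      (if i < j then a i j else 0) + (if j < i then a i j else 0) + (if i = j then a i j else 0) := by
    intro i j
    rcases lt_trichotomy i j with h | rfl | h
    · simp [h, h.ne, h.not_gt]
    · simp
    · simp [h, h.ne', h.not_gt]
  rw [Finset.sum_congr rfl fun i _ => Finset.sum_congr rfl fun j _ => hsplit i j]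
  simp only [Finset.sum_add_distrib]
  have hdiag : ∀ i, a i i = 0 := fun i => by simp [ha]
  rw [Finset.sum_comm (f := fun i j => if j < i then a i j else 0), ← Finset.sum_add_distrib]
  simp only [Finset.sum_ite_eq, Finset.mem_univ, if_true, hdiag, Finset.sum_const_zero, add_zero,
    ← Finset.sum_add_distrib]
  refine Finset.sum_congr rfl fun i _ => Finset.sum_congr rfl fun j _ => ?_
  by_cases h : i < j
  · simp only [h, true_and, if_true, ha, add_comm (j : ℕ) (i : ℕ)]
    split_ifs <;> ring
  · simp [h]

variable [IsAlgClosed k]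

theorem ramMaps_finite {p d n : ℕ} [CharP k p] (P : Fin n → k) (hP : Function.Injective P)
    (e : Fin n → ℕ) (he : W4c1limliniiii.Admissible p d e) (hp : p = 0 ∨ d < p) :
    (W4c1limliniiii.ramMaps d P e).Finite := by
  classical
  set T := ramPoly P e with hT
  set M := ∑ i, (e i - 1) with hM
  have hTM : T.coeff M = 1 := by
    rw [hM, ← natDegree_ramPoly P e]; exact (ramPoly_monic P e).coeff_natDegree
  let σ := Fin (d + 1) × Fin (d + 1)
  let Xv : Fin (d + 1) → Fin (d + 1) → MvPolynomial σ k := fun i j => MvPolynomial.X (i, j)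
  let gens : Set (MvPolynomial σ k) :=
    (Set.range fun ij : σ => Xv ij.1 ij.2 + Xv ij.2 ij.1) ∪
    (Set.range fun q : σ × σ =>
      Xv q.1.1 q.1.2 * Xv q.2.1 q.2.2 - Xv q.1.1 q.2.1 * Xv q.1.2 q.2.2 +
        Xv q.1.1 q.2.2 * Xv q.1.2 q.2.1) ∪
    (Set.range fun m : ℕ => wlin d m - MvPolynomial.C (T.coeff m) * wlin d M) ∪
    (Set.range fun i : Fin (d + 1) => Xv i i)
  have hgens : ∀ g ∈ gens, ∃ a, g.IsHomogeneous a := by
    rintro g (((⟨ij, rfl⟩ | ⟨q, rfl⟩) | ⟨m, rfl⟩) | ⟨i, rfl⟩)
    · exact ⟨1, (MvPolynomial.isHomogeneous_X k _).add (MvPolynomial.isHomogeneous_X k _)⟩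
    · exact ⟨2, (((MvPolynomial.isHomogeneous_X k _).mul (MvPolynomial.isHomogeneous_X k _)).sub
        ((MvPolynomial.isHomogeneous_X k _).mul (MvPolynomial.isHomogeneous_X k _))).add
        ((MvPolynomial.isHomogeneous_X k _).mul (MvPolynomial.isHomogeneous_X k _))⟩
    · exact ⟨1, (wlin_isHomogeneous d m).sub ((wlin_isHomogeneous d M).C_mul _)⟩
    · exact ⟨1, MvPolynomial.isHomogeneous_X k _⟩
  have hfin := finite_slice gens hgens (wlin d M) (wlin_isHomogeneous d M) (by
    intro v hv hv0
    by_contra hne
    obtain ⟨⟨a, b⟩, hab⟩ : ∃ ab, v ab ≠ 0 := by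
      by_contra h
      push Not at h
      exact hne (funext h)
    have hanti : ∀ i j, v (j, i) = - v (i, j) := fun i j => by
      have := hv _ (Or.inl (Or.inl (Or.inl ⟨(i, j), rfl⟩)))
      simp [Xv] at this
      linear_combination this
    have hpl : ∀ i j, v (a, b) * v (i, j) - v (a, i) * v (b, j) + v (a, j) * v (b, i) = 0 := fun i j => by
      simpa [Xv] using hv _ (Or.inl (Or.inl (Or.inr ⟨((a, b), (i, j)), rfl⟩)))
    let F : k[X] := ∑ i : Fin (d + 1), Polynomial.monomial (i : ℕ) (v (i, b) / v (a, b))
    let G : k[X] := ∑ i : Fin (d + 1), Polynomial.monomial (i : ℕ) (v (a, i))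
    have hcF : ∀ i : Fin (d + 1), F.coeff i = v (i, b) / v (a, b) := fun i => by
      simp [F, finsetSum_coeff, coeff_monomial, Fin.val_inj]
    have hcG : ∀ i : Fin (d + 1), G.coeff i = v (a, i) := fun i => by
      simp [G, finsetSum_coeff, coeff_monomial, Fin.val_inj]
    have hdeg : ∀ c : Fin (d + 1) → k,
        (∑ i : Fin (d + 1), Polynomial.monomial (i : ℕ) (c i)).natDegree ≤ d := fun c =>
      natDegree_sum_le_of_forall_le _ _ fun i _ => (natDegree_monomial_le _).trans (Fin.is_le i)
    have hvpl : pl F G d = v := by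
      funext ⟨i, j⟩
      simp only [pl, hcF, hcG]
      field_simp
      rw [hanti b i, hanti b j]
      linear_combination -(hpl i j)
    refine dependent_of_wronskian_eq_zero hp (hdeg _) (hdeg _) ?_
      (?_ : LinearIndependent k ![F, G])
    · ext m
      rw [coeff_wronskian (hdeg _) (hdeg _), hvpl, coeff_zero]
      have := hv _ (Or.inl (Or.inr ⟨m, rfl⟩))
      simp [hv0] at this
      exact this
    · rw [LinearIndependent.pair_iff]
      intro x y hxy
      have h1 := congrArg (fun f => f.coeff (a : ℕ)) hxy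
      have h2 := congrArg (fun f => f.coeff (b : ℕ)) hxy
      have haa : v (a, a) = 0 := by simpa [Xv] using hv _ (Or.inr ⟨a, rfl⟩)
      have hbb : v (b, b) = 0 := by simpa [Xv] using hv _ (Or.inr ⟨b, rfl⟩)
      simp [hcF, hcG, haa, hbb, hab] at h1 h2
      exact ⟨h1, h2⟩)
  refine Set.Finite.of_surjOn
    (fun v => Submodule.span k {w | ∃ a : Fin (d + 1), w = ∑ i : Fin (d + 1), Polynomial.monomial (i : ℕ) (v (a, i))}) ?_ hfin
  intro V hV
  have hS := InSchubert.of_mem hV
  obtain ⟨F, G, hind, rfl⟩ := exists_basis_pair hS.2.1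
  obtain ⟨lam, hW⟩ := schubert_wronskian hP he hS rfl
  have hF : F.natDegree ≤ d := natDegree_le_iff_degree_le.2
    (mem_degreeLE.1 (hS.1 (Submodule.subset_span (by simp))))
  have hG : G.natDegree ≤ d := natDegree_le_iff_degree_le.2
    (mem_degreeLE.1 (hS.1 (Submodule.subset_span (by simp))))
  have hlam : lam ≠ 0 := fun h =>
    dependent_of_wronskian_eq_zero hp hF hG (by rw [hW, h]; simp) hind
  set G' := C lam⁻¹ * G with hG'
  have hG'd : G'.natDegree ≤ d := (natDegree_C_mul_le _ _).trans hG
  have hW' : wronskian F G' = T := by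
    have : wronskian F G' = C lam⁻¹ * wronskian F G := by
      rw [hG']; simp [wronskian, derivative_mul]; ring
    rw [this, hW, ← mul_assoc, ← C_mul, inv_mul_cancel₀ hlam, C_1, one_mul, hT]
  refine ⟨pl F G' d, ⟨?_, ?_⟩, ?_⟩
  · rintro g (((⟨ij, rfl⟩ | ⟨q, rfl⟩) | ⟨m, rfl⟩) | ⟨i, rfl⟩)
    · simp [Xv, pl]
    · simp [Xv, pl]; ring
    · simp only [map_sub, map_mul, MvPolynomial.eval_C, ← coeff_wronskian hF hG'd, hW', hTM, mul_one,
        sub_self]
    · simp [Xv, pl]
  · rw [← coeff_wronskian hF hG'd, hW', hTM]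
  · apply le_antisymm
    · rw [Submodule.span_le]
      rintro w ⟨a, rfl⟩
      refine Submodule.mem_span_pair.2 ⟨-G'.coeff a, lam⁻¹ * F.coeff a, ?_⟩
      ext i
      simp only [coeff_add, coeff_smul, smul_eq_mul, finsetSum_coeff, coeff_monomial]
      by_cases hi : i < d + 1
      · rw [Finset.sum_eq_single (⟨i, hi⟩ : Fin (d + 1))]
        · simp [pl, hG', coeff_C_mul]; ring
        · intro j _ hj; rw [if_neg]; exact fun h => hj (Fin.ext h)
        · simp
      · rw [coeff_eq_zero_of_natDegree_lt (show F.natDegree < i by omega),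
          coeff_eq_zero_of_natDegree_lt (show G.natDegree < i by omega),
          Finset.sum_eq_zero fun j _ => if_neg (by omega)]
        simp
    · -- a nonzero coordinate gives back both members
      have hT0 : T ≠ 0 := (ramPoly_monic P e).ne_zero
      obtain ⟨⟨a, b⟩, hab⟩ : ∃ ab, pl F G' d ab ≠ 0 := by
        by_contra h
        push Not at h
        refine hT0 (Polynomial.ext fun m => ?_)
        rw [← hW', coeff_wronskian hF hG'd, show pl F G' d = 0 from funext h, coeff_zero, wlin]
        simp only [map_sum]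
        exact Finset.sum_eq_zero fun i _ => Finset.sum_eq_zero fun j _ => by split_ifs <;> simp
      set wv : Fin (d + 1) → k[X] := fun c => ∑ i : Fin (d + 1),
        Polynomial.monomial (i : ℕ) (pl F G' d (c, i)) with hwv
      have hw : ∀ c, wv c = C (F.coeff c) * G' - C (G'.coeff c) * F := by
        intro c
        ext i
        simp only [hwv, finsetSum_coeff, coeff_monomial, coeff_sub, coeff_C_mul]
        by_cases hi : i < d + 1
        · rw [Finset.sum_eq_single (⟨i, hi⟩ : Fin (d + 1))]
          · simp [pl]; ring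
          · intro j _ hj; rw [if_neg]; exact fun h => hj (Fin.ext h)
          · simp
        · rw [coeff_eq_zero_of_natDegree_lt (show F.natDegree < i by omega),
            coeff_eq_zero_of_natDegree_lt (show G'.natDegree < i by omega),
            Finset.sum_eq_zero fun j _ => if_neg (by omega)]
          simp
      have hmem : ∀ c, wv c ∈ Submodule.span k
          {w | ∃ a : Fin (d + 1), w = ∑ i : Fin (d + 1), Polynomial.monomial (i : ℕ) (pl F G' d (a, i))} :=
        fun c => Submodule.subset_span ⟨c, rfl⟩
      have e1 : C (pl F G' d (a, b)) * G' = C (G'.coeff b) * wv a - C (G'.coeff a) * wv b := by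
        simp only [hw, pl, map_sub, map_mul]; ring
      have e2 : C (pl F G' d (a, b)) * F = C (F.coeff b) * wv a - C (F.coeff a) * wv b := by
        simp only [hw, pl, map_sub, map_mul]; ring
      simp only [← smul_eq_C_mul] at e1 e2
      have hF' := Submodule.smul_mem _ (pl F G' d (a, b))⁻¹ (e2.symm ▸ Submodule.sub_mem _
        (Submodule.smul_mem _ _ (hmem a)) (Submodule.smul_mem _ _ (hmem b)) :
          pl F G' d (a, b) • F ∈ _)
      have hG'' := Submodule.smul_mem _ ((pl F G' d (a, b))⁻¹) (e1.symm ▸ Submodule.sub_mem _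
        (Submodule.smul_mem _ _ (hmem a)) (Submodule.smul_mem _ _ (hmem b)) :
          pl F G' d (a, b) • G' ∈ _)
      rw [inv_smul_smul₀ hab] at hF' hG''
      have hG''' := Submodule.smul_mem _ lam hG''
      have hsm : lam • G' = G := by rw [hG', ← smul_eq_C_mul, smul_inv_smul₀ hlam]
      rw [hsm] at hG'''
      rw [Submodule.span_le]
      rintro x (rfl | rfl)
      · exact hF'
      · exact hG'''

end RamP129
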