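import Groth.Agent.Lib.RamP1_29.General

/-!
# Flipping two ramification indices: `(e, f) ↦ (p - e, p - f)`
-/

set_option autoImplicit false

universe u

namespace RamP129

open Polynomial

variable {k : Type u} [Field k]

theorem sum_sub_one {d n : ℕ} {e : Fin n → ℕ} (he1 : ∀ i, 1 ≤ e i)
    (hsum : (∑ i, e i) + 2 = 2 * d + n) : (∑ i, (e i - 1)) + 2 = 2 * d := by
  have : ∑ i, (e i - 1) + n = ∑ i, e i := by
    calc ∑ i, (e i - 1) + n = ∑ i, ((e i - 1) + 1) := by rw [Finset.sum_add_distrib]; simp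
      _ = ∑ i, e i := Finset.sum_congr rfl fun i _ => Nat.sub_add_cancel (he1 i)
  omega

theorem schubert_wronskian_one {d n : ℕ} {P : Fin n → k} (hP : Function.Injective P) {e : Fin n → ℕ}
    (he1 : ∀ i, 1 ≤ e i) (hsum : (∑ i, e i) + 2 = 2 * d + n) {V : Submodule k k[X]} (hV : InSchubert d P e V)
    {F G : k[X]} (hspan : V = Submodule.span k {F, G}) :
    ∃ lam : k, wronskian F G = C lam * ramPoly P e := by
  by_cases hW : wronskian F G = 0
  · exact ⟨0, by simp [hW]⟩
  subst hspan
  have hdvd : ∀ i, (X - C (P i)) ^ (e i - 1) ∣ wronskian F G := by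
    intro i
    obtain ⟨t, ht, ht0, hte⟩ := hV.2.2 i
    obtain ⟨u, -, μ, hμ, hu⟩ := exists_partner_member ht ht0
    have h := pow_dvd_X_sub_C_mul_wronskian (t := u)
      ((pow_dvd_pow _ hte).trans (pow_rootMultiplicity_dvd t (P i)))
    rw [hu, mul_left_comm] at h
    have h' := (IsUnit.dvd_mul_left (isUnit_C.2 hμ.isUnit)).1 h
    obtain ⟨m, hm⟩ : ∃ m, e i = m + 1 := ⟨e i - 1, by have := he1 i; omega⟩
    rw [hm, pow_succ'] at h'
    rw [hm, Nat.add_sub_cancel]
    exact (mul_dvd_mul_iff_left (X_sub_C_ne_zero (P i))).1 h'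
  obtain ⟨q, hq⟩ : ramPoly P e ∣ wronskian F G :=
    Finset.prod_dvd_of_coprime (fun i _ j _ hij => (pairwise_coprime_X_sub_C hP hij).pow)
      fun i _ => hdvd i
  have hdeg := natDegree_wronskian_le
    (natDegree_le_iff_degree_le.2 (mem_degreeLE.1 (hV.1 (Submodule.subset_span (by simp)))))
    (natDegree_le_iff_degree_le.2 (mem_degreeLE.1 (hV.1 (Submodule.subset_span (by simp))))) hW
  have hq0 : q ≠ 0 := fun h => hW (by rw [hq, h, mul_zero])
  rw [hq, natDegree_mul (ramPoly_monic P e).ne_zero hq0, natDegree_ramPoly] at hdeg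
  have := sum_sub_one he1 hsum
  exact ⟨q.coeff 0, by rw [hq, mul_comm, ← eq_C_of_natDegree_eq_zero (by omega : q.natDegree = 0)]⟩

theorem mem_ramMaps_of_schubert_one {d n : ℕ} {P : Fin n → k} (hP : Function.Injective P)
    {e : Fin n → ℕ} (he1 : ∀ i, 1 ≤ e i) (hsum : (∑ i, e i) + 2 = 2 * d + n) {V : Submodule k k[X]}
    (hV : InSchubert d P e V) (hsep : W4c1limliniiii.IsSeparable V) :
    V ∈ W4c1limliniiii.ramMaps d P e := by
  obtain ⟨F, G, -, hspan⟩ := exists_basis_pair hV.2.1
  obtain ⟨lam, hW⟩ := schubert_wronskian_one hP he1 hsum hV hspan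
  subst hspan
  obtain ⟨A, hA, B, hB, hAB⟩ := hsep
  have hFG : wronskian F G ≠ 0 := by
    obtain ⟨a, b, rfl⟩ := Submodule.mem_span_pair.1 hA
    obtain ⟨a', b', rfl⟩ := Submodule.mem_span_pair.1 hB
    rw [wronskian_comb] at hAB
    exact right_ne_zero_of_mul hAB
  have hlam : lam ≠ 0 := fun h => hFG (by rw [hW, h]; simp)
  have key : ∀ s ∈ Submodule.span k {F, G}, s ≠ 0 → ∀ i,
      s.rootMultiplicity (P i) ≤ e i := by
    intro s hs hs0 i
    obtain ⟨t, -, μ, hμ, ht⟩ := exists_partner_member hs hs0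
    have h := pow_dvd_X_sub_C_mul_wronskian (t := t) (pow_rootMultiplicity_dvd s (P i))
    rw [ht, hW, ← mul_assoc (C μ), ← C_mul, mul_left_comm] at h
    have h := (IsUnit.dvd_mul_left (isUnit_C.2 (mul_ne_zero hμ hlam).isUnit)).1 h
    by_contra hgt
    push Not at hgt
    have h' := (pow_dvd_pow (X - C (P i)) (show e i + 1 ≤ _ from hgt)).trans h
    obtain ⟨u, hu1, hu2⟩ := ramPoly_split P hP e i
    rw [hu1, ← mul_assoc, ← pow_succ', Nat.sub_add_cancel (he1 i), pow_succ] at h'
    exact hu2 (dvd_iff_isRoot.1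
      ((mul_dvd_mul_iff_left (pow_ne_zero _ (X_sub_C_ne_zero (P i)))).1 h'))
  refine ⟨⟨hV.1, hV.2.1, ?_, ?_⟩, ⟨A, hA, B, hB, hAB⟩, fun i => ⟨hV.2.2 i, fun s hs hs0 => key s hs hs0 i⟩⟩
  · by_contra hno
    push Not at hno
    have hlt : ∀ s ∈ Submodule.span k {F, G}, s.natDegree ≤ d - 1 := fun s hs => by
      have h1 : s.natDegree ≤ d := natDegree_le_iff_degree_le.2 (mem_degreeLE.1 (hV.1 hs))
      have := hno s hs
      omega
    have h := natDegree_wronskian_le (hlt F (Submodule.subset_span (by simp)))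
      (hlt G (Submodule.subset_span (by simp))) hFG
    rw [hW, natDegree_C_mul hlam, natDegree_ramPoly] at h
    have := sum_sub_one he1 hsum
    omega
  · intro a
    by_contra hall
    push Not at hall
    by_cases ha : ∃ i, P i = a
    · obtain ⟨i, rfl⟩ := ha
      obtain ⟨s, hs, hs0, hse⟩ := hV.2.2 i
      obtain ⟨t, ht, μ, hμ, hst⟩ := exists_partner_member hs hs0
      have hsd : (X - C (P i)) ^ e i ∣ s :=
        (pow_dvd_pow _ hse).trans (pow_rootMultiplicity_dvd s (P i))
      obtain ⟨t', ht'⟩ : X - C (P i) ∣ t := dvd_iff_isRoot.2 (hall t ht)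
      obtain ⟨v, hv⟩ := hsd
      have hdiv : (X - C (P i)) ^ e i ∣ wronskian s t := by
        rw [wronskian]
        refine dvd_sub ⟨v * derivative t, by rw [hv]; ring⟩ ?_
        refine ⟨(C (e i : k) * v + (X - C (P i)) * derivative v) * t', ?_⟩
        rw [ht', ← mul_assoc, mul_comm (derivative s), hv, derivative_pow_mul]; ring
      obtain ⟨u, hu1, hu2⟩ := ramPoly_split P hP e i
      rw [hst, hW, ← mul_assoc, ← C_mul] at hdiv
      have hdiv := (IsUnit.dvd_mul_left (isUnit_C.2 (mul_ne_zero hμ hlam).isUnit)).1 hdiv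
      rw [hu1, ← Nat.sub_add_cancel (he1 i), pow_succ, Nat.add_sub_cancel] at hdiv
      exact hu2 (dvd_iff_isRoot.1
        ((mul_dvd_mul_iff_left (pow_ne_zero _ (X_sub_C_ne_zero (P i)))).1 hdiv))
    · push Not at ha
      have h := congrArg (eval a) hW
      simp [wronskian, hall F (Submodule.subset_span (by simp)),
        hall G (Submodule.subset_span (by simp)), hlam] at h
      exact ramPoly_eval_ne_zero P e a ha h

open Classical in
theorem exists_chart_flip {p : ℕ} [CharP k p] {d n : ℕ} {e : Fin n → ℕ}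
    (he : W4c1limliniiii.Admissible p d e) {P : Fin n → k} (hPi : Function.Injective P)
    (hD' : vdm P ≠ 0) {V : Submodule k k[X]} (hV : V ∈ W4c1limliniiii.ramMaps d P e) :
    ∃ (ab : Fin (d + 1) × Fin (d + 1)) (v : Var d n → k),
      (∀ g ∈ gens e ab.1 ab.2, MvPolynomial.eval v g = 0) ∧
        (v ∘ fun i : Fin n => (Sum.inl i : Var d n)) = P ∧
        Submodule.span k {Fp v false, Fp v true} = V := by
  have hS := InSchubert.of_mem hV
  obtain ⟨F, G, hind, rfl⟩ := exists_basis_pair hS.2.1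
  have hF : F.natDegree ≤ d := natDegree_le_iff_degree_le.2
    (mem_degreeLE.1 (hS.1 (Submodule.subset_span (by simp))))
  have hG : G.natDegree ≤ d := natDegree_le_iff_degree_le.2
    (mem_degreeLE.1 (hS.1 (Submodule.subset_span (by simp))))
  obtain ⟨a, b, hab⟩ : ∃ a b : Fin (d + 1),
      F.coeff a * G.coeff b - F.coeff b * G.coeff a ≠ 0 := by
    by_contra hno
    push Not at hno
    obtain ⟨a, ha⟩ : ∃ a : Fin (d + 1), F.coeff a ≠ 0 :=
      ⟨⟨F.natDegree, by omega⟩, leadingCoeff_ne_zero.2 (hind.ne_zero 0 : F ≠ 0)⟩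
    have hzero : G.coeff a • F + (-F.coeff a) • G = 0 := by
      ext m
      by_cases hm : m < d + 1
      · have := hno a ⟨m, hm⟩
        simp
        linear_combination -this
      · simp [coeff_eq_zero_of_natDegree_lt (show F.natDegree < m by omega),
          coeff_eq_zero_of_natDegree_lt (show G.natDegree < m by omega)]
    exact ha (neg_eq_zero.1 (LinearIndependent.pair_iff.1 hind _ _ hzero).2)
  set Δ := F.coeff a * G.coeff b - F.coeff b * G.coeff a with hΔ
  set F' := (G.coeff b / Δ) • F + (-F.coeff b / Δ) • G with hF'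
  set G' := (-G.coeff a / Δ) • F + (F.coeff a / Δ) • G with hG'
  have hF'V : F' ∈ Submodule.span k {F, G} := Submodule.mem_span_pair.2 ⟨_, _, rfl⟩
  have hG'V : G' ∈ Submodule.span k {F, G} := Submodule.mem_span_pair.2 ⟨_, _, rfl⟩
  have q1 : F'.coeff a = 1 := by
    simp [hF']; field_simp; rw [hΔ]; ring
  have q2 : F'.coeff b = 0 := by simp [hF']; ring
  have q3 : G'.coeff a = 0 := by simp [hG']; ring
  have q4 : G'.coeff b = 1 := by
    simp [hG']; field_simp; rw [hΔ]; ring
  have hind' : LinearIndependent k ![F', G'] := by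
    rw [LinearIndependent.pair_iff]
    intro x y hxy
    have h1 := congrArg (fun f => f.coeff (a : ℕ)) hxy
    have h2 := congrArg (fun f => f.coeff (b : ℕ)) hxy
    simp [q1, q2, q3, q4] at h1 h2
    exact ⟨h1, h2⟩
  haveI : FiniteDimensional k (Submodule.span k ({F, G} : Set k[X])) :=
    Module.finite_of_finrank_eq_succ hS.2.1
  have hspan : Submodule.span k {F', G'} = Submodule.span k {F, G} := by
    refine Submodule.eq_of_le_of_finrank_eq (Submodule.span_le.2 ?_) ?_
    · rintro t (rfl | rfl) <;> assumption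
    · rw [← Matrix.range_cons_cons_empty F' G' ![], finrank_span_eq_card hind', hS.2.1]; rfl
  set cf : Bool → k[X] := fun c => if c then G' else F'
  set v : Var d n → k := Sum.elim P (Sum.elim (fun cj => (cf cj.1).coeff (cj.2 : ℕ))
    (fun t => if t then (vdm P)⁻¹ else ((wronskian F' G').coeff (∑ i, (e i - 1)))⁻¹)) with hvdef
  have hdeg : ∀ c, (cf c).natDegree ≤ d := by
    intro c
    refine natDegree_le_iff_degree_le.2 (mem_degreeLE.1 (hS.1 ?_))
    cases c <;> assumption
  have hFp : ∀ c, Fp v c = cf c := by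
    intro c
    ext m
    by_cases hm : m < d + 1
    · exact coeff_Fp v c ⟨m, hm⟩
    · rw [coeff_eq_zero_of_natDegree_lt (lt_of_le_of_lt (natDegree_Fp_le v c) (by omega)),
        coeff_eq_zero_of_natDegree_lt (lt_of_le_of_lt (hdeg c) (by omega))]
  have hFf : Fp v false = F' := hFp false
  have hFt : Fp v true = G' := hFp true
  refine ⟨(a, b), v, ?_, rfl, by rw [hFf, hFt, hspan]⟩
  rintro _ ⟨E, rfl⟩
  rw [eval_eqv]
  cases E with
  | piv c t => cases c <;> cases t <;> simp [eqv, hvdef, cf, q1, q2, q3, q4]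
  | minor i r s hr hs =>
    have hi : v (Sum.inl i) = P i := rfl
    simp only [eqv, hi, hFf, hFt]
    obtain ⟨t, ht, ht0, hte⟩ := hS.2.2 i
    rw [← hspan] at ht
    obtain ⟨α, β, rfl⟩ := Submodule.mem_span_pair.1 ht
    have hz := (pow_dvd_iff_taylor (P i) (e i) _).1 ((le_rootMultiplicity_iff ht0).1 hte)
    have hr' := hz r hr
    have hs' := hz s hs
    simp at hr' hs'
    by_cases hα : α = 0
    · have hβ : β ≠ 0 := fun h => ht0 (by simp [hα, h])
      simp [hα, hβ] at hr' hs'
      simp [hr', hs']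
    · apply mul_left_cancel₀ hα
      linear_combination ((taylor (P i) G').coeff s) * hr' - ((taylor (P i) G').coeff r) * hs'
  | lam =>
    simp only [eqv, hFf, hFt]
    have hW : (wronskian F' G').coeff (∑ i, (e i - 1)) ≠ 0 := by
      obtain ⟨lam, hl⟩ := schubert_wronskian hPi he hS hspan.symm
      have hM : (ramPoly P e).coeff (∑ i, (e i - 1)) = 1 := by
        rw [← natDegree_ramPoly P e]; exact (ramPoly_monic P e).coeff_natDegree
      rw [hl, coeff_C_mul, hM, mul_one]
      intro h0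
      obtain ⟨X1, hX1, X2, hX2, hne⟩ := hV.2.1
      rw [← hspan] at hX1 hX2
      obtain ⟨s1, s2, rfl⟩ := Submodule.mem_span_pair.1 hX1
      obtain ⟨s3, s4, rfl⟩ := Submodule.mem_span_pair.1 hX2
      rw [wronskian_comb, hl, h0] at hne
      simp at hne
    show _⁻¹ * _ - 1 = 0
    rw [inv_mul_cancel₀ hW, sub_self]
  | disc =>
    show (vdm P)⁻¹ * vdm P - 1 = 0
    rw [inv_mul_cancel₀ hD', sub_self]

end RamP129
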