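import Groth.Agent.Lib.RamP1_29.FlipStep

/-!
# Generic separation with unramified marked points, and the flip bijection
-/

set_option autoImplicit false

universe u

namespace RamP129

open Polynomial

variable {k : Type u} [Field k]

/-- variables: a chart, an unramified point `A`, the inverse of the Wronskian there, and a point `B` -/
abbrev Var3 (d m : ℕ) := Var d m ⊕ Fin 3

section Eqs

variable {R : Type u} [CommRing R] {d m : ℕ}

noncomputable def q1 (u : Var3 d m → R) : R :=
  u (Sum.inr 1) * (wronskian (Fp (u ∘ Sum.inl) false) (Fp (u ∘ Sum.inl) true)).eval (u (Sum.inr 0)) - 1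

noncomputable def q2 (u : Var3 d m → R) : R :=
  (Fp (u ∘ Sum.inl) false).eval (u (Sum.inr 0)) * (Fp (u ∘ Sum.inl) true).eval (u (Sum.inr 2)) -
    (Fp (u ∘ Sum.inl) false).eval (u (Sum.inr 2)) * (Fp (u ∘ Sum.inl) true).eval (u (Sum.inr 0))

variable {S : Type u} [CommRing S] (φ : R →+* S)

theorem map_q1 (u : Var3 d m → R) : φ (q1 u) = q1 (φ ∘ u) := by
  simp only [q1, map_sub, map_mul, map_one, ← eval_map_apply, wronskian_map, map_Fp, Function.comp_apply,
    ← Function.comp_assoc]

theorem map_q2 (u : Var3 d m → R) : φ (q2 u) = q2 (φ ∘ u) := by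
  simp only [q2, map_sub, map_mul, ← eval_map_apply, map_Fp, Function.comp_apply, ← Function.comp_assoc]

end Eqs

variable {d m : ℕ}

noncomputable def gens3 (e : Fin m → ℕ) (a b : Fin (d + 1)) (jj : Option (Fin m)) :
    Set (MvPolynomial (Var3 d m) k) :=
  Set.range (eqv e a b (fun s => MvPolynomial.X (Sum.inl s))) ∪
    {q1 (fun s => MvPolynomial.X s), q2 (fun s => MvPolynomial.X s)} ∪
    {g | ∃ l, jj = some l ∧ g = MvPolynomial.X (Sum.inr 2) - MvPolynomial.X (Sum.inl (Sum.inl l))}

theorem eval_q (w : Var3 d m → k) :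
    MvPolynomial.eval w (q1 (fun s => MvPolynomial.X s)) = q1 w ∧
      MvPolynomial.eval w (q2 (fun s => MvPolynomial.X s)) = q2 w := by
  constructor
  · rw [map_q1]; congr 1; funext s; simp
  · rw [map_q2]; congr 1; funext s; simp

theorem eval_inl (e : Fin m → ℕ) (a b : Fin (d + 1)) (w : Var3 d m → k) (E : Eqn d m e) :
    MvPolynomial.eval w (eqv e a b (fun s => MvPolynomial.X (Sum.inl s)) E) = eqv e a b (w ∘ Sum.inl) E := by
  rw [map_eqv]; congr 1; funext s; simp

theorem eval_eps (F : k[X]) (P dP : k) :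
    (F.map (TrivSqZeroExt.inlHom k k)).eval
        (TrivSqZeroExt.inlHom k k P + DualNumber.eps * TrivSqZeroExt.inlHom k k dP) =
      TrivSqZeroExt.inlHom k k (F.eval P) +
        DualNumber.eps * TrivSqZeroExt.inlHom k k (dP * (derivative F).eval P) := by
  have h := congrArg (fun f => f.coeff 0)
    (taylor_first_order (TrivSqZeroExt.inlHom k k) eps_sq P dP F 0)
  simp only [Polynomial.map_zero, mul_zero, add_zero, map_zero, zero_add, taylor_coeff_zero, coeff_add,
    coeff_C_mul, coeff_map] at h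
  rw [h, coeff_derivative, taylor_coeff_one]
  simp

open Classical in
theorem free_sep [IsAlgClosed k] (p : ℕ) [CharP k p] (e : Fin m → ℕ)
    (he : W4c1limliniiii.Admissible p d e) (jj : Option (Fin m)) {N : ℕ} (π : Fin N → Var3 d m)
    (hN : m + 1 + (if jj = none then 1 else 0) ≤ N) :
    ∃ Φ : MvPolynomial (Fin N) k, Φ ≠ 0 ∧ ∀ P : Fin N → k, MvPolynomial.eval P Φ ≠ 0 →
      ∀ (ab : Fin (d + 1) × Fin (d + 1)) (w : Var3 d m → k),
        (∀ g ∈ gens3 e ab.1 ab.2 jj, MvPolynomial.eval w g = 0) → w ∘ π ≠ P := by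
  have htan : ∀ (a b : Fin (d + 1)) (v : Var3 d m → k),
      (∀ g ∈ gens3 e a b jj, MvPolynomial.eval v g = 0) →
        Module.finrank k (TanDim29.tan (gens3 e a b jj) v) < N := by
    intro a b v hv
    set v' : Var d m → k := v ∘ Sum.inl
    have hv' : ∀ g ∈ gens e a b, MvPolynomial.eval v' g = 0 := by
      rintro _ ⟨E, rfl⟩
      rw [eval_eqv, ← eval_inl]
      exact hv _ (Or.inl (Or.inl ⟨E, rfl⟩))
    have haev : ∀ w ∈ TanDim29.tan (gens3 e a b jj) v, ∀ g ∈ gens3 e a b jj,
        (MvPolynomial.aeval (dualPt v w) : MvPolynomial (Var3 d m) k →ₐ[k] DualNumber k) g = 0 := by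
      intro w hw g hg
      have h := TanDim29.aeval_dual v w g
      rw [hv g hg, TanDim29.mem_tan_iff.1 hw g hg] at h
      exact h.trans (by simp)
    have hX : ∀ w : Var3 d m → k,
        (⇑(MvPolynomial.aeval (dualPt v w) : MvPolynomial (Var3 d m) k →ₐ[k] DualNumber k).toRingHom ∘
          fun s => MvPolynomial.X s) = dualPt v w := fun w => by funext s; simp
    have hmem : ∀ w ∈ TanDim29.tan (gens3 e a b jj) v, w ∘ Sum.inl ∈ TanDim29.tan (gens e a b) v' := by
      intro w hw
      rw [TanDim29.mem_tan_iff]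
      rintro _ ⟨E, rfl⟩
      have h := haev w hw _ (Or.inl (Or.inl ⟨E, rfl⟩))
      have h1 := map_eqv ((MvPolynomial.aeval (dualPt v w) : MvPolynomial (Var3 d m) k →ₐ[k] DualNumber k)).toRingHom
        e a b (fun s => (MvPolynomial.X (Sum.inl s) : MvPolynomial (Var3 d m) k)) E
      have h2 := map_eqv ((MvPolynomial.aeval (dualPt v' (w ∘ Sum.inl)) : MvPolynomial (Var d m) k →ₐ[k] DualNumber k)).toRingHom
        e a b (fun s => (MvPolynomial.X s : MvPolynomial (Var d m) k)) E
      have e1 : (⇑(MvPolynomial.aeval (dualPt v w) : MvPolynomial (Var3 d m) k →ₐ[k] DualNumber k).toRingHom ∘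
          fun s => MvPolynomial.X (Sum.inl s)) =
          (⇑(MvPolynomial.aeval (dualPt v' (w ∘ Sum.inl)) : MvPolynomial (Var d m) k →ₐ[k] DualNumber k).toRingHom ∘
          fun s => MvPolynomial.X s) := by funext s; simp [dualPt, v']
      rw [e1, ← h2] at h1
      have h3 := h1.symm.trans h
      have h4 := TanDim29.aeval_dual v' (w ∘ Sum.inl)
        (eqv e a b (fun s => (MvPolynomial.X s : MvPolynomial (Var d m) k)) E)
      have h5 := congrArg TrivSqZeroExt.snd (h4.symm.trans h3)
      simpa using h5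
    haveI : Module.Finite k (TanDim29.tan (gens3 e a b jj) v) := inferInstance
    set T := TanDim29.tan (gens3 e a b jj) v
    let L : T →ₗ[k] (TanDim29.tan (gens e a b) v') × (Fin (if jj = none then 1 else 0) → k) :=
      { toFun := fun w => (⟨w.1 ∘ Sum.inl, hmem w.1 w.2⟩, fun _ => w.1 (Sum.inr 2))
        map_add' := fun _ _ => rfl
        map_smul' := fun _ _ => rfl }
    have hinj : Function.Injective L := by
      rw [injective_iff_map_eq_zero]
      intro w hw
      have hl : ∀ s, w.1 (Sum.inl s) = 0 := fun s =>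
        congrFun (congrArg (fun z => (z.1 : Var d m → k)) hw) s
      have hB : w.1 (Sum.inr 2) = 0 := by
        rcases hjj : jj with _ | l
        · exact congrFun (congrArg Prod.snd hw) ⟨0, by simp [hjj]⟩
        · have h := haev w.1 w.2 _ (Or.inr ⟨l, hjj, rfl⟩)
          have h' := congrArg TrivSqZeroExt.snd h
          simpa [dualPt, hl] using h'
      have hFd : ∀ c, Fp (dualPt v w.1 ∘ Sum.inl) c = (Fp v' c).map (TrivSqZeroExt.inlHom k k) := fun c => by
        have e1 : dualPt v w.1 ∘ Sum.inl = dualPt v' (0 : Var d m → k) := by funext s; simp [dualPt, hl, v']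
        rw [e1, Fp_dual]
        simp [Fp]
      have hd : ∀ t, dualPt v w.1 (Sum.inr t) = TrivSqZeroExt.inlHom k k (v (Sum.inr t)) +
          DualNumber.eps * TrivSqZeroExt.inlHom k k (w.1 (Sum.inr t)) := fun t => dualPt_apply _ _ _
      set F := Fp v' false
      set G := Fp v' true
      set A := v (Sum.inr 0)
      set B := v (Sum.inr 2)
      have hq2 : F.eval A * G.eval B - F.eval B * G.eval A = 0 := by
        have := hv _ (Or.inl (Or.inr (Or.inr rfl)))
        rwa [(eval_q v).2] at this
      have hq1 : v (Sum.inr 1) * (wronskian F G).eval A = 1 := by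
        have := hv _ (Or.inl (Or.inr (Or.inl rfl)))
        rwa [(eval_q v).1, q1, sub_eq_zero] at this
      have hWA : (wronskian F G).eval A ≠ 0 := right_ne_zero_of_mul_eq_one hq1
      have h2 := haev w.1 w.2 _ (Or.inl (Or.inr (Or.inr rfl)))
      have h1 := haev w.1 w.2 _ (Or.inl (Or.inr (Or.inl rfl)))
      have m2 := map_q2 ((MvPolynomial.aeval (dualPt v w.1) : MvPolynomial (Var3 d m) k →ₐ[k] DualNumber k)).toRingHom
        (fun s => (MvPolynomial.X s : MvPolynomial (Var3 d m) k))
      have m1 := map_q1 ((MvPolynomial.aeval (dualPt v w.1) : MvPolynomial (Var3 d m) k →ₐ[k] DualNumber k)).toRingHom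
        (fun s => (MvPolynomial.X s : MvPolynomial (Var3 d m) k))
      rw [hX] at m1 m2
      replace h2 := m2.symm.trans h2
      replace h1 := m1.symm.trans h1
      simp only [q2, hFd, hd] at h2
      rw [eval_eps, eval_eps, eval_eps, eval_eps] at h2
      have hlin := minor_eps _ eps_sq eps_inl_inj hq2 h2
      rw [hB] at hlin
      have hδ : w.1 (Sum.inr 0) * ((derivative F).eval A * G.eval B - F.eval B * (derivative G).eval A) = 0 := by
        linear_combination hlin
      have hA : w.1 (Sum.inr 0) = 0 := by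
        refine (mul_eq_zero.1 hδ).resolve_right fun hc => hWA ?_
        by_cases hGB : G.eval B = 0
        · by_cases hFB : F.eval B = 0
          · exfalso
            obtain ⟨hV, -⟩ := point_mem he hv'
            obtain ⟨t, ht, ht0⟩ := hV.1.2.2.2 B
            obtain ⟨α, β, rfl⟩ := Submodule.mem_span_pair.1 ht
            have hFB' : (Fp v' false).eval B = 0 := hFB
            have hGB' : (Fp v' true).eval B = 0 := hGB
            simp [hFB', hGB'] at ht0
          · have g1 : G.eval A = 0 := mul_left_cancel₀ hFB (by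
              rw [mul_zero]; linear_combination (F.eval A) * hGB - hq2)
            have g2 : (derivative G).eval A = 0 := mul_left_cancel₀ hFB (by
              rw [mul_zero]; linear_combination ((derivative F).eval A) * hGB - hc)
            simp [wronskian, g1, g2]
        · apply mul_left_cancel₀ hGB
          simp only [wronskian, eval_sub, eval_mul, mul_zero]
          linear_combination ((derivative G).eval A) * hq2 - (G.eval A) * hc
      have hz : w.1 (Sum.inr 1) = 0 := by
        simp only [q1, hFd, hd, ← wronskian_map] at h1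
        rw [hA, map_zero, mul_zero, add_zero, eval_map_apply] at h1
        have h' := congrArg TrivSqZeroExt.snd h1
        simp [DualNumber.snd_mul] at h'
        exact h'.resolve_right hWA
      refine Subtype.ext (funext fun s => ?_)
      rcases s with s | t
      · exact hl s
      · fin_cases t <;> assumption
    have h1 := LinearMap.finrank_le_finrank_of_injective hinj
    have h2 : Module.finrank k (TanDim29.tan (gens e a b) v') ≤ m := (tan_bound he hv').1
    rw [Module.finrank_prod] at h1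
    rw [Module.finrank_fin_fun] at h1
    omega
  choose Φ hΦ hemp using fun ab : Fin (d + 1) × Fin (d + 1) =>
    TanDim29.generic_finite (gens3 e ab.1 ab.2 jj) π (fun v hv => (htan ab.1 ab.2 v hv).le)
  refine ⟨∏ ab, Φ ab, Finset.prod_ne_zero_iff.2 fun ab _ => hΦ ab, fun P hP ab w hw hwP => ?_⟩
  rw [map_prod, Finset.prod_ne_zero_iff] at hP
  have := (hemp ab P (hP ab (Finset.mem_univ _))).2 (htan ab.1 ab.2)
  exact Set.eq_empty_iff_forall_notMem.1 this w ⟨hw, hwP⟩

theorem exists_vdm (n : ℕ) : ∃ Φ : MvPolynomial (Fin n) k, Φ ≠ 0 ∧ ∀ P : Fin n → k,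
    MvPolynomial.eval P Φ ≠ 0 → Function.Injective P ∧ vdm P ≠ 0 := by
  classical
  refine ⟨vdm fun i => MvPolynomial.X i, Finset.prod_ne_zero_iff.2 fun ij hij => ?_, fun P hP => ?_⟩
  · rw [Finset.mem_offDiag] at hij
    exact sub_ne_zero.2 fun h => hij.2.2 (MvPolynomial.X_injective h)
  have e : MvPolynomial.eval P (vdm fun i => MvPolynomial.X i) = vdm P := by simp [vdm, map_prod]
  rw [e] at hP
  exact ⟨fun i j h => by_contra fun hne => hP (Finset.prod_eq_zero (i := (i, j)) (by simp [hne]) (sub_eq_zero.2 h)), hP⟩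

open Classical in
theorem sep_one [IsAlgClosed k] (p : ℕ) [Fact p.Prime] [CharP k p] {n : ℕ} (e : Fin n → ℕ)
    (he1 : ∀ l, 1 ≤ e l) (hlt : ∀ l, e l < p) (hsum : (∑ l, e l) + 2 = 2 * d + n) (i j : Fin n) (hij : i ≠ j)
    (hei : e i = 1) (hoth : ∀ l, l ≠ i → l ≠ j → 2 ≤ e l) :
    ∃ Φ : MvPolynomial (Fin n) k, Φ ≠ 0 ∧ ∀ P : Fin n → k, MvPolynomial.eval P Φ ≠ 0 →
      ∀ V ∈ W4c1limliniiii.ramMaps d P e, Separated V (P i) (P j) := by
  set S : Finset (Fin n) := Finset.univ.filter fun l => 2 ≤ e l with hS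
  set m := S.card
  let ι : Fin m ≃ S := S.equivFin.symm
  set es : Fin m → ℕ := fun l => e (ι l).1 with hes
  have hpp : 2 ≤ p := (Fact.out : p.Prime).two_le
  obtain ⟨Φv, hΦv, hvd⟩ := exists_vdm (k := k) n
  by_cases hbig : ∀ l, e l ≤ d
  swap
  · refine ⟨Φv, hΦv, fun P _ V hV => absurd (fun l => ramMaps_le_deg hV l) hbig⟩
  have hsum_es : (∑ l, es l) + 2 = 2 * d + m := by
    have h1 : ∑ l, es l = ∑ x ∈ S, e x :=
      (Equiv.sum_comp ι fun x : S => e x.1).trans (Finset.sum_coe_sort S e)
    have h2 : ∑ x ∈ Sᶜ, e x = Sᶜ.card := by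
      rw [Finset.card_eq_sum_ones]
      refine Finset.sum_congr rfl fun x hx => ?_
      simp [hS] at hx
      have := he1 x
      omega
    have h3 := Finset.sum_add_sum_compl S e
    have h4 := Finset.card_add_card_compl S
    rw [Fintype.card_fin] at h4
    omega
  have hadm : W4c1limliniiii.Admissible p d es := by
    refine ⟨fun l => ⟨(Finset.mem_filter.1 (ι l).2).2, hbig _, fun h => ?_⟩, hsum_es⟩
    have := Nat.le_of_dvd (by have := he1 (ι l).1; simp only [hes]; omega) h
    have := hlt (ι l).1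
    simp only [hes] at *
    omega
  set jj : Option (Fin m) := if hj : j ∈ S then some (ι.symm ⟨j, hj⟩) else none with hjj
  let π : Fin n → Var3 d m := fun l =>
    if h : l ∈ S then Sum.inl (Sum.inl (ι.symm ⟨l, h⟩)) else if l = i then Sum.inr 0 else Sum.inr 2
  have hiS : i ∉ S := by simp [hS, hei]
  have hN : m + 1 + (if jj = none then 1 else 0) ≤ n := by
    by_cases hj : j ∈ S
    · rw [hjj, dif_pos hj, if_neg (Option.some_ne_none _)]
      have := Finset.card_le_univ (insert i S)
      rw [Finset.card_insert_of_notMem hiS, Fintype.card_fin] at this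
      omega
    · rw [hjj, dif_neg hj, if_pos rfl]
      have := Finset.card_le_univ (insert i (insert j S))
      rw [Finset.card_insert_of_notMem (by simp [hij, hiS]), Finset.card_insert_of_notMem hj, Fintype.card_fin] at this
      omega
  obtain ⟨Φ, hΦ, hfree⟩ := free_sep (k := k) p es hadm jj π hN
  refine ⟨Φ * Φv, mul_ne_zero hΦ hΦv, fun P hP V hV s hs hroots => ?_⟩
  rw [map_mul, mul_ne_zero_iff] at hP
  obtain ⟨hPi, -⟩ := hvd P hP.2
  set Q : Fin m → k := fun l => P (ι l).1 with hQ
  have hQi : Function.Injective Q := fun x y h => ι.injective (Subtype.ext (hPi h))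
  have hQd : vdm Q ≠ 0 := Finset.prod_ne_zero_iff.2 fun xy hxy =>
    sub_ne_zero.2 fun h => (Finset.mem_offDiag.1 hxy).2.2 (hQi h)
  have hVQ : V ∈ W4c1limliniiii.ramMaps d Q es := ⟨hV.1, hV.2.1, fun l => hV.2.2 _⟩
  obtain ⟨ab, v, hv, hvQ, hspan⟩ := exists_chart_flip hadm hQi hQd hVQ
  by_contra hs0
  set F := Fp v false
  set G := Fp v true
  have hWA : (wronskian F G).eval (P i) ≠ 0 := by
    obtain ⟨lam, hl⟩ := schubert_wronskian_one hPi he1 hsum (InSchubert.of_mem hV) hspan.symm
    have hlam : lam ≠ 0 := by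
      intro h
      obtain ⟨A, hA, B, hB, hAB⟩ := hV.2.1
      rw [← hspan] at hA hB
      obtain ⟨x, y, rfl⟩ := Submodule.mem_span_pair.1 hA
      obtain ⟨x', y', rfl⟩ := Submodule.mem_span_pair.1 hB
      rw [wronskian_comb, hl, h] at hAB
      simp at hAB
    rw [hl, eval_mul, eval_C, ramPoly, eval_prod]
    refine mul_ne_zero hlam (Finset.prod_ne_zero_iff.2 fun l _ => ?_)
    rcases eq_or_ne l i with rfl | hli
    · simp [hei]
    · simp only [eval_pow, eval_sub, eval_X, eval_C]
      exact pow_ne_zero _ (sub_ne_zero.2 fun h => hli (hPi h).symm)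
  set w : Var3 d m → k := Sum.elim v ![P i, ((wronskian F G).eval (P i))⁻¹, P j] with hw
  have hwl : w ∘ Sum.inl = v := rfl
  have hvl : ∀ l : Fin m, v (Sum.inl l) = P (ι l).1 := fun l => congrFun hvQ l
  refine hfree P hP.1 ab w ?_ (funext fun l => ?_)
  · rintro g ((⟨E, rfl⟩ | rfl | rfl) | ⟨l, hl, rfl⟩)
    · rw [eval_inl, hwl, ← eval_eqv]; exact hv _ ⟨E, rfl⟩
    · rw [(eval_q w).1]
      simp only [q1, hwl]
      show ((wronskian F G).eval (P i))⁻¹ * (wronskian F G).eval (P i) - 1 = 0
      rw [inv_mul_cancel₀ hWA, sub_self]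
    · rw [(eval_q w).2]
      simp only [q2, hwl]
      show F.eval (P i) * G.eval (P j) - F.eval (P j) * G.eval (P i) = 0
      rw [← hspan] at hs
      obtain ⟨α, β, rfl⟩ := Submodule.mem_span_pair.1 hs
      obtain ⟨r1, r2⟩ := hroots
      simp at r1 r2
      change α * F.eval (P i) + β * G.eval (P i) = 0 at r1
      change α * F.eval (P j) + β * G.eval (P j) = 0 at r2
      by_cases hα : α = 0
      · have hβ : β ≠ 0 := fun h => hs0 (by simp [hα, h])
        simp [hα, hβ] at r1 r2
        simp [r1, r2]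
      · apply mul_left_cancel₀ hα
        linear_combination (G.eval (P j)) * r1 - (G.eval (P i)) * r2
    · by_cases hj : j ∈ S
      · rw [hjj, dif_pos hj, Option.some_inj] at hl
        subst hl
        simp [hw, hvl]
      · rw [hjj, dif_neg hj] at hl; exact absurd hl (by simp)
  · simp only [Function.comp_apply, π]
    by_cases h : l ∈ S
    · simp [dif_pos h, hw, hvl]
    · rw [dif_neg h]
      split_ifs with hli
      · simp [hw, hli]
      · have hlj : l = j := by_contra fun hne => h (by simp [hS, hoth l hli hne])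
        simp [hw, hlj]

open Classical in
theorem exists_sep [IsAlgClosed k] (p : ℕ) [Fact p.Prime] [CharP k p] {n : ℕ} (e : Fin n → ℕ)
    (he1 : ∀ l, 1 ≤ e l) (hlt : ∀ l, e l < p) (hsum : (∑ l, e l) + 2 = 2 * d + n) (i j : Fin n) (hij : i ≠ j)
    (hoth : ∀ l, l ≠ i → l ≠ j → 2 ≤ e l) :
    ∃ Φ : MvPolynomial (Fin n) k, Φ ≠ 0 ∧ ∀ P : Fin n → k, MvPolynomial.eval P Φ ≠ 0 →
      ∀ V ∈ W4c1limliniiii.ramMaps d P e, Separated V (P i) (P j) := by
  by_cases hi : e i = 1
  · exact sep_one p e he1 hlt hsum i j hij hi hoth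
  by_cases hj : e j = 1
  · obtain ⟨Φ, h0, h⟩ := sep_one (k := k) p e he1 hlt hsum j i hij.symm hj fun l h1 h2 => hoth l h2 h1
    exact ⟨Φ, h0, fun P hP V hV => (h P hP V hV).symm⟩
  by_cases hbig : ∀ l, e l ≤ d
  swap
  · exact ⟨1, one_ne_zero, fun P _ V hV => absurd (fun l => ramMaps_le_deg hV l) hbig⟩
  have hadm : W4c1limliniiii.Admissible p d e := by
    refine ⟨fun l => ⟨?_, hbig l, fun h => ?_⟩, hsum⟩
    · rcases eq_or_ne l i with rfl | h1
      · have := he1 l; omega
      rcases eq_or_ne l j with rfl | h2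
      · have := he1 l; omega
      exact hoth l h1 h2
    · have := Nat.le_of_dvd (he1 l) h
      have := hlt l
      omega
  obtain ⟨Φ, h0, h⟩ := general (k := k) p d n e hadm
  exact ⟨Φ, h0, fun P hP V hV => (h P hP).2 V hV i j hij⟩

open Classical in
theorem flip_count [IsAlgClosed k] (p : ℕ) [Fact p.Prime] [CharP k p] (d n : ℕ) (e : Fin n → ℕ)
    (he : W4c1limliniiii.Admissible p d e) (hlt : ∀ l, e l < p) (i j : Fin n) (hij : i ≠ j) (m : ℕ) :
    W4c1limliniiii.HasGenericCount (k := k) d e m ↔
      W4c1limliniiii.HasGenericCount (k := k) (d + p - e i - e j)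
        (Function.update (Function.update e i (p - e i)) j (p - e j)) m := by
  set d' := d + p - e i - e j with hd'
  set e' := Function.update (Function.update e i (p - e i)) j (p - e j) with he'
  have hi' : e' i = p - e i := by rw [he', Function.update_of_ne hij, Function.update_self]
  have hj' : e' j = p - e j := by rw [he', Function.update_self]
  have hl' : ∀ l, l ≠ i → l ≠ j → e' l = e l := fun l h1 h2 => by
    rw [he', Function.update_of_ne h2, Function.update_of_ne h1]
  have he1 : ∀ l, 1 ≤ e l := fun l => by have := (he.1 l).1; omega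
  have h1' : ∀ l, 1 ≤ e' l ∧ e' l < p := by
    intro l
    have := he1 i; have := he1 j; have := hlt i; have := hlt j
    rcases eq_or_ne l i with rfl | h1
    · rw [hi']; omega
    rcases eq_or_ne l j with rfl | h2
    · rw [hj']; omega
    rw [hl' l h1 h2]; exact ⟨he1 l, hlt l⟩
  have hsum' : (∑ l, e' l) + 2 = 2 * d' + n := by
    have e1 : ∑ l, e' l + e i + e j = ∑ l, e l + (p - e i) + (p - e j) := by
      rw [he', Finset.sum_update_of_mem (Finset.mem_univ j)]
      have h2 : ∑ x ∈ Finset.univ \ {j}, Function.update e i (p - e i) x + e i =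
          (p - e i) + ∑ x ∈ Finset.univ \ {j}, e x := by
        rw [Finset.sum_update_of_mem (by simp [hij]), add_assoc,
          ← Finset.sum_singleton e i, Finset.sum_sdiff (by simp [hij])]
      have h3 : ∑ x ∈ Finset.univ \ {j}, e x + e j = ∑ x, e x := by
        rw [← Finset.sum_singleton e j, Finset.sum_sdiff (Finset.subset_univ _)]
      omega
    have := he.2; have := (he.1 i).2.1; have := (he.1 j).2.1; have := hlt i; have := hlt j
    omega
  obtain ⟨Φ1, hΦ1, hs1⟩ := exists_sep (k := k) p e he1 hlt he.2 i j hij fun l _ _ => (he.1 l).1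
  obtain ⟨Φ2, hΦ2, hs2⟩ := exists_sep (k := k) p e' (fun l => (h1' l).1) (fun l => (h1' l).2) hsum' i j hij
    fun l a b => by rw [hl' l a b]; exact (he.1 l).1
  obtain ⟨Φv, hΦv, hvd⟩ := exists_vdm (k := k) n
  have hback_e : Function.update (Function.update e' i (p - e' i)) j (p - e' j) = e := by
    funext l
    rcases eq_or_ne l j with rfl | h2
    · rw [Function.update_self, hj']; have := hlt l; omega
    rw [Function.update_of_ne h2]
    rcases eq_or_ne l i with rfl | h1
    · rw [Function.update_self, hi']; have := hlt l; omega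
    rw [Function.update_of_ne h1, hl' l h1 h2]
  have hback_d : d' + p - e' i - e' j = d := by
    rw [hd', hi', hj']
    have := (he.1 i).2.1; have := (he.1 j).2.1; have := hlt i; have := hlt j
    omega
  have key : ∀ P : Fin n → k, MvPolynomial.eval P (Φ1 * Φ2 * Φv) ≠ 0 →
      Nonempty (W4c1limliniiii.ramMaps (k := k) d P e ≃ W4c1limliniiii.ramMaps (k := k) d' P e') := by
    intro P hP
    simp only [map_mul, mul_ne_zero_iff] at hP
    obtain ⟨hPi, -⟩ := hvd P hP.2
    have hfwd : ∀ V : W4c1limliniiii.ramMaps (k := k) d P e, ∃ V' : W4c1limliniiii.ramMaps (k := k) d' P e',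
        IsFlip (P i) (P j) (e i) (e j) (e' i) (e' j) V.1 V'.1 := by
      intro V
      obtain ⟨V', h1, h2⟩ := step hPi he1 hlt he.2 hij V.2 (hs1 P hP.1.1 V.1 V.2)
      exact ⟨⟨V', h1⟩, by rw [hi', hj']; exact h2⟩
    have hbwd : ∀ V' : W4c1limliniiii.ramMaps (k := k) d' P e', ∃ V : W4c1limliniiii.ramMaps (k := k) d P e,
        IsFlip (P i) (P j) (e' i) (e' j) (e i) (e j) V'.1 V.1 := by
      intro V'
      obtain ⟨V, h1, h2⟩ := step hPi (fun l => (h1' l).1) (fun l => (h1' l).2) hsum' hij V'.2
        (hs2 P hP.1.2 V'.1 V'.2)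
      rw [hback_e, hback_d] at h1
      refine ⟨⟨V, h1⟩, ?_⟩
      rw [show e i = p - e' i by rw [hi']; have := hlt i; omega,
        show e j = p - e' j by rw [hj']; have := hlt j; omega]
      exact h2
    choose f hf using hfwd
    choose g hg using hbwd
    exact ⟨{ toFun := f, invFun := g,
             left_inv := fun V => Subtype.ext (flip_unique (h1' i).1 (h1' j).1 (f V).2.1 (hg (f V)) (hf V).symm)
             right_inv := fun V' => Subtype.ext (flip_unique (he1 i) (he1 j) (g V').2.1 (hf (g V')) (hg V').symm) }⟩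
  have hne : Φ1 * Φ2 * Φv ≠ 0 := mul_ne_zero (mul_ne_zero hΦ1 hΦ2) hΦv
  constructor <;> rintro ⟨Φ, hΦ, h⟩ <;>
    refine ⟨Φ * (Φ1 * Φ2 * Φv), mul_ne_zero hΦ hne, fun P hP => ?_⟩ <;>
    rw [map_mul, mul_ne_zero_iff] at hP <;>
    obtain ⟨E⟩ := key P hP.2 <;>
    obtain ⟨hf, hc⟩ := h P hP.1
  · haveI := hf.to_subtype
    exact ⟨Set.finite_coe_iff.1 (Finite.of_equiv _ E), (Nat.card_congr E).symm.trans hc⟩
  · haveI := hf.to_subtype
    exact ⟨Set.finite_coe_iff.1 (Finite.of_equiv _ E.symm), (Nat.card_congr E).trans hc⟩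

end RamP129
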