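import Groth.Agent.Lib.RamP1_29.Flip

/-!
# The flip on a single pencil, and separation with unramified marked points
-/

set_option autoImplicit false

universe u

namespace RamP129

open Polynomial

variable {k : Type u} [Field k]

/-- No member of `V` vanishes at both points. -/
def Separated (V : Submodule k k[X]) (a b : k) : Prop := ∀ s ∈ V, (s.IsRoot a ∧ s.IsRoot b) → s = 0

theorem Separated.symm {V : Submodule k k[X]} {a b : k} (h : Separated V a b) : Separated V b a :=
  fun s hs h' => h s hs h'.symm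

/-- The two pencils are flips of each other. -/
def IsFlip (a b : k) (ea eb ea' eb' : ℕ) (V V' : Submodule k k[X]) : Prop :=
  ∃ F G : k[X], V = Submodule.span k {(X - C a) ^ ea * F, (X - C b) ^ eb * G} ∧
    V' = Submodule.span k {(X - C a) ^ ea' * G, (X - C b) ^ eb' * F}

theorem IsFlip.symm {a b : k} {ea eb ea' eb' : ℕ} {V V' : Submodule k k[X]}
    (h : IsFlip a b ea eb ea' eb' V V') : IsFlip a b ea' eb' ea eb V' V :=
  let ⟨F, G, h1, h2⟩ := h; ⟨G, F, h2, h1⟩

theorem wronskian_scale (c u v : k[X]) : wronskian (c * u) (c * v) = c ^ 2 * wronskian u v := by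
  simp [wronskian, derivative_mul]; ring

theorem wronskian_flip (p : ℕ) [CharP k p] (a b : k) (u v : k[X]) :
    wronskian ((X - C b) ^ p * u) ((X - C a) ^ p * v) =
      (X - C a) ^ p * (X - C b) ^ p * wronskian u v := by
  simp only [wronskian, derivative_mul, derivative_pow, CharP.cast_eq_zero, C_0, zero_mul, zero_add]
  ring

theorem finrank_span_pair_of_wronskian {F G : k[X]} (hW : wronskian F G ≠ 0) :
    LinearIndependent k ![F, G] ∧ Module.finrank k (Submodule.span k ({F, G} : Set k[X])) = 2 := by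
  have hind : LinearIndependent k ![F, G] := by
    rw [LinearIndependent.pair_iff]
    intro x y h
    have h1 : wronskian (x • F + y • G) G = 0 := by rw [h]; simp [wronskian]
    have h2 : wronskian F (x • F + y • G) = 0 := by rw [h]; simp [wronskian]
    simp [wronskian, smul_eq_C_mul, derivative_mul] at h1 h2
    constructor
    · by_contra hx
      refine hW (mul_left_cancel₀ (C_ne_zero.2 hx) ?_)
      rw [mul_zero, wronskian]; linear_combination h1
    · by_contra hy
      refine hW (mul_left_cancel₀ (C_ne_zero.2 hy) ?_)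
      rw [mul_zero, wronskian]; linear_combination h2
  refine ⟨hind, ?_⟩
  rw [← Matrix.range_cons_cons_empty F G ![], finrank_span_eq_card hind]; rfl

theorem eq_span_pair {V : Submodule k k[X]} (hV : Module.finrank k V = 2) {F G : k[X]} (hF : F ∈ V)
    (hG : G ∈ V) (hind : LinearIndependent k ![F, G]) : V = Submodule.span k {F, G} := by
  haveI : FiniteDimensional k V := Module.finite_of_finrank_eq_succ hV
  refine (Submodule.eq_of_le_of_finrank_eq (Submodule.span_le.2 ?_) ?_).symm
  · rintro t (rfl | rfl) <;> assumption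
  · rw [← Matrix.range_cons_cons_empty F G ![], finrank_span_eq_card hind, hV]; rfl

theorem members_at_point {V : Submodule k k[X]} {d : ℕ} (hV : W4c1limliniiii.IsPencil d V) {a : k}
    {F s : k[X]} (hF : F ∈ V) (hF0 : F ≠ 0) (hFa : F.IsRoot a) (hs : s ∈ V) (hsa : s.IsRoot a) :
    ∃ c : k, s = C c * F := by
  by_contra hno
  have hind : LinearIndependent k ![F, s] := by
    rw [LinearIndependent.pair_iff]
    intro x y h
    by_cases hy : y = 0
    · refine ⟨?_, hy⟩
      rw [hy, zero_smul, add_zero, smul_eq_zero] at h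
      exact h.resolve_right hF0
    · refine absurd ⟨-x / y, mul_left_cancel₀ (C_ne_zero.2 hy) ?_⟩ hno
      rw [smul_eq_C_mul, smul_eq_C_mul] at h
      rw [← mul_assoc, ← C_mul, mul_div_cancel₀ _ hy, map_neg]
      linear_combination h
  obtain ⟨t, ht, hta⟩ := hV.2.2.2 a
  rw [eq_span_pair hV.2.1 hF hs hind, Submodule.mem_span_pair] at ht
  obtain ⟨x, y, rfl⟩ := ht
  exact hta (by simp [IsRoot.def.1 hFa, IsRoot.def.1 hsa])

variable {p d n : ℕ} [Fact p.Prime] [CharP k p] {P : Fin n → k} {e : Fin n → ℕ}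

open Classical in
theorem ramMaps_le_deg {V : Submodule k k[X]} (hV : V ∈ W4c1limliniiii.ramMaps d P e) (l : Fin n) :
    e l ≤ d := by
  obtain ⟨s, hs, hs0, hle⟩ := (hV.2.2 l).1
  calc e l ≤ rootMultiplicity (P l) s := hle
    _ ≤ s.roots.card := by rw [← count_roots]; exact Multiset.count_le_card _ _
    _ ≤ s.natDegree := s.card_roots'
    _ ≤ d := natDegree_le_iff_degree_le.2 (mem_degreeLE.1 (hV.1.1 hs))

theorem step (hP : Function.Injective P) (he1 : ∀ l, 1 ≤ e l) (hlt : ∀ l, e l < p)
    (hsum : (∑ l, e l) + 2 = 2 * d + n) {i j : Fin n} (hij : i ≠ j) {V : Submodule k k[X]}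
    (hV : V ∈ W4c1limliniiii.ramMaps d P e) (hsep : Separated V (P i) (P j)) :
    ∃ V' ∈ W4c1limliniiii.ramMaps (d + p - e i - e j) P
        (Function.update (Function.update e i (p - e i)) j (p - e j)),
      IsFlip (P i) (P j) (e i) (e j) (p - e i) (p - e j) V V' := by
  classical
  set a := P i
  set b := P j
  set e' := Function.update (Function.update e i (p - e i)) j (p - e j) with he'
  have hab : a ≠ b := fun h => hij (hP h)
  have hi' : e' i = p - e i := by rw [he', Function.update_of_ne hij, Function.update_self]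
  have hj' : e' j = p - e j := by rw [he', Function.update_self]
  have hl' : ∀ l, l ≠ i → l ≠ j → e' l = e l := fun l h1 h2 => by
    rw [he', Function.update_of_ne h2, Function.update_of_ne h1]
  obtain ⟨s, hs, hs0, hse⟩ := (hV.2.2 i).1
  obtain ⟨t, ht, ht0, hte⟩ := (hV.2.2 j).1
  obtain ⟨F, hF⟩ := (pow_dvd_pow (X - C a) hse).trans (pow_rootMultiplicity_dvd s a)
  obtain ⟨G, hG⟩ := (pow_dvd_pow (X - C b) hte).trans (pow_rootMultiplicity_dvd t b)
  have hsa : s.IsRoot a := dvd_iff_isRoot.1 ((dvd_pow_self _ (by have := he1 i; omega)).trans ⟨F, hF⟩)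
  have htb : t.IsRoot b := dvd_iff_isRoot.1 ((dvd_pow_self _ (by have := he1 j; omega)).trans ⟨G, hG⟩)
  have hind : LinearIndependent k ![s, t] := by
    rw [LinearIndependent.pair_iff]
    intro x y h
    by_cases hy : y = 0
    · refine ⟨?_, hy⟩
      rw [hy, zero_smul, add_zero, smul_eq_zero] at h
      exact h.resolve_right hs0
    · refine absurd (hsep t ht ⟨?_, htb⟩) ht0
      have := congrArg (eval a) h
      simp [IsRoot.def.1 hsa, hy] at this
      exact this
  have hspan : V = Submodule.span k {s, t} := eq_span_pair hV.1.2.1 hs ht hind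
  have hW : wronskian s t ≠ 0 := by
    obtain ⟨A, hA, B, hB, hAB⟩ := hV.2.1
    rw [hspan] at hA hB
    obtain ⟨x, y, rfl⟩ := Submodule.mem_span_pair.1 hA
    obtain ⟨x', y', rfl⟩ := Submodule.mem_span_pair.1 hB
    rw [wronskian_comb] at hAB
    exact right_ne_zero_of_mul hAB
  have hF0 : F ≠ 0 := fun h => hs0 (by rw [hF, h, mul_zero])
  have hG0 : G ≠ 0 := fun h => ht0 (by rw [hG, h, mul_zero])
  have hsd : F.natDegree + e i ≤ d := by
    have := natDegree_le_iff_degree_le.2 (mem_degreeLE.1 (hV.1.1 hs))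
    rw [hF, natDegree_mul (pow_ne_zero _ (X_sub_C_ne_zero a)) hF0, natDegree_pow, natDegree_X_sub_C] at this
    omega
  have htd : G.natDegree + e j ≤ d := by
    have := natDegree_le_iff_degree_le.2 (mem_degreeLE.1 (hV.1.1 ht))
    rw [hG, natDegree_mul (pow_ne_zero _ (X_sub_C_ne_zero b)) hG0, natDegree_pow, natDegree_X_sub_C] at this
    omega
  set u := (X - C a) ^ (p - e i) * G with hu
  set v := (X - C b) ^ (p - e j) * F with hv
  set c := (X - C a) ^ e i * (X - C b) ^ e j with hc
  have hpi : (X - C a) ^ (p - e i) * (X - C a) ^ e i = (X - C a : k[X]) ^ p := by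
    rw [← pow_add]; congr 1; have := hlt i; omega
  have hpj : (X - C b) ^ (p - e j) * (X - C b) ^ e j = (X - C b : k[X]) ^ p := by
    rw [← pow_add]; congr 1; have := hlt j; omega
  have hcu : c * u = (X - C a) ^ p * t := by rw [hc, hu, hG, ← hpi]; ring
  have hcv : c * v = (X - C b) ^ p * s := by rw [hc, hv, hF, ← hpj]; ring
  have hW' : wronskian v u ≠ 0 := by
    intro h0
    have h := wronskian_scale c v u
    rw [h0, mul_zero, hcu, hcv, wronskian_flip] at h
    exact mul_ne_zero (mul_ne_zero (pow_ne_zero _ (X_sub_C_ne_zero a)) (pow_ne_zero _ (X_sub_C_ne_zero b))) hW h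
  obtain ⟨hindvu, hrk⟩ := finrank_span_pair_of_wronskian hW'
  set V' := Submodule.span k ({u, v} : Set k[X]) with hV'
  have hu' : u ∈ V' := Submodule.subset_span (by simp)
  have hv' : v ∈ V' := Submodule.subset_span (by simp)
  have hsum' : (∑ l, e' l) + 2 = 2 * (d + p - e i - e j) + n := by
    have e1 : ∑ l, e' l + e i + e j = ∑ l, e l + (p - e i) + (p - e j) := by
      rw [he', Finset.sum_update_of_mem (Finset.mem_univ j)]
      have h2 : ∑ x ∈ Finset.univ \ {j}, Function.update e i (p - e i) x + e i =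
          (p - e i) + ∑ x ∈ Finset.univ \ {j}, e x := by
        rw [Finset.sum_update_of_mem (by simp [hij]), add_assoc,
          ← Finset.sum_singleton e i, Finset.sum_sdiff (by simp [hij])]
      have h3 : ∑ x ∈ Finset.univ \ {j}, e x + e j = ∑ x, e x := by
        rw [← Finset.sum_singleton e j, Finset.sum_sdiff (Finset.subset_univ _)]
      omega
    have := hlt i; have := hlt j
    omega
  have he1' : ∀ l, 1 ≤ e' l := by
    intro l
    rcases eq_or_ne l j with rfl | h2
    · rw [hj']; have := hlt l; omega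
    rcases eq_or_ne l i with rfl | h1
    · rw [hi']; have := hlt l; omega
    rw [hl' l h1 h2]; exact he1 l
  have hS : InSchubert (d + p - e i - e j) P e' V' := by
    refine ⟨?_, ?_, fun l => ?_⟩
    · rw [hV', Submodule.span_le]
      have := hlt i; have := hlt j
      rintro y (rfl | rfl) <;>
        refine mem_degreeLE.2 (natDegree_le_iff_degree_le.1 (natDegree_mul_le.trans ?_)) <;>
        rw [natDegree_pow, natDegree_X_sub_C] <;> omega
    · rw [hV', Set.pair_comm]; exact hrk
    · rcases eq_or_ne l i with rfl | h1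
      · have hu0 : u ≠ 0 := mul_ne_zero (pow_ne_zero _ (X_sub_C_ne_zero a)) hG0
        exact ⟨u, hu', hu0, by rw [le_rootMultiplicity_iff hu0, hi']; exact dvd_mul_right _ _⟩
      rcases eq_or_ne l j with rfl | h2
      · have hv0 : v ≠ 0 := mul_ne_zero (pow_ne_zero _ (X_sub_C_ne_zero b)) hF0
        exact ⟨v, hv', hv0, by rw [le_rootMultiplicity_iff hv0, hj']; exact dvd_mul_right _ _⟩
      obtain ⟨r, hr, hr0, hre⟩ := (hV.2.2 l).1
      rw [hspan] at hr
      obtain ⟨x, y, rfl⟩ := Submodule.mem_span_pair.1 hr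
      have hla : P l - a ≠ 0 := sub_ne_zero.2 fun h => h1 (hP h)
      have hlb : P l - b ≠ 0 := sub_ne_zero.2 fun h => h2 (hP h)
      set A := (P l - a) ^ p
      set B := (P l - b) ^ p
      refine ⟨(y / A) • u + (x / B) • v, add_mem (Submodule.smul_mem _ _ hu') (Submodule.smul_mem _ _ hv'), ?_, ?_⟩
      · intro h
        obtain ⟨h3, h4⟩ := LinearIndependent.pair_iff.1 hindvu (x / B) (y / A) (by rw [add_comm]; exact h)
        have hx : x = 0 := by simpa [div_eq_zero_iff, B, pow_ne_zero _ hlb] using h3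
        have hy : y = 0 := by simpa [div_eq_zero_iff, A, pow_ne_zero _ hla] using h4
        exact hr0 (by simp [hx, hy])
      · have hne : (y / A) • u + (x / B) • v ≠ 0 := by
          intro h
          obtain ⟨h3, h4⟩ := LinearIndependent.pair_iff.1 hindvu (x / B) (y / A) (by rw [add_comm]; exact h)
          have hx : x = 0 := by simpa [div_eq_zero_iff, B, pow_ne_zero _ hlb] using h3
          have hy : y = 0 := by simpa [div_eq_zero_iff, A, pow_ne_zero _ hla] using h4
          exact hr0 (by simp [hx, hy])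
        rw [le_rootMultiplicity_iff hne, hl' l h1 h2]
        refine (IsCoprime.pow_left (IsCoprime.mul_right ?_ ?_) : IsCoprime ((X - C (P l)) ^ e l) c).dvd_of_dvd_mul_left ?_
        · exact (isCoprime_X_sub_C_of_isUnit_sub hla.isUnit).pow_right
        · exact (isCoprime_X_sub_C_of_isUnit_sub hlb.isUnit).pow_right
        have hpc : ∀ z : k, (X - C z : k[X]) ^ p = (X - C (P l)) ^ p + C ((P l - z) ^ p) := by
          intro z
          rw [C_pow, ← add_pow_char, C_sub]; congr 1; ring
        have key : c * ((y / A) • u + (x / B) • v) =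
            (X - C (P l)) ^ p * (C (y / A) * t + C (x / B) * s) + (x • s + y • t) := by
          have e1 : C (y / A) * C A = C y := by rw [← C_mul, div_mul_cancel₀ _ (pow_ne_zero _ hla)]
          have e2 : C (x / B) * C B = C x := by rw [← C_mul, div_mul_cancel₀ _ (pow_ne_zero _ hlb)]
          rw [smul_eq_C_mul, smul_eq_C_mul, smul_eq_C_mul, smul_eq_C_mul, show c * (C (y / A) * u + C (x / B) * v) = C (y / A) * (c * u) + C (x / B) * (c * v) by ring,
            hcu, hcv, hpc a, hpc b]
          linear_combination t * e1 + s * e2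
        rw [key]
        exact dvd_add ((pow_dvd_pow _ (hlt l).le).mul_right _)
          ((le_rootMultiplicity_iff hr0).1 hre)
  refine ⟨V', mem_ramMaps_of_schubert_one hP he1' hsum' hS ⟨v, hv', u, hu', hW'⟩, F, G, ?_, rfl⟩
  rw [hspan, hF, hG]

theorem flip_unique {a b : k} {ea eb ea' eb' : ℕ} (ha : 1 ≤ ea) (hb : 1 ≤ eb) {V V₁ V₂ : Submodule k k[X]}
    (hV : W4c1limliniiii.IsPencil d V) (h₁ : IsFlip a b ea eb ea' eb' V V₁)
    (h₂ : IsFlip a b ea eb ea' eb' V V₂) : V₁ = V₂ := by
  suffices key : ∀ {U₁ U₂ : Submodule k k[X]}, IsFlip a b ea eb ea' eb' V U₁ →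
      IsFlip a b ea eb ea' eb' V U₂ → U₁ ≤ U₂ from le_antisymm (key h₁ h₂) (key h₂ h₁)
  rintro U₁ U₂ ⟨F₁, G₁, hV₁, rfl⟩ ⟨F₂, G₂, hV₂, rfl⟩
  have hne : ∀ {F G : k[X]}, V = Submodule.span k {(X - C a) ^ ea * F, (X - C b) ^ eb * G} →
      F ≠ 0 ∧ G ≠ 0 := by
    intro F G h
    have hr := hV.2.1
    constructor <;> rintro rfl <;> rw [h, mul_zero] at hr
    · rw [Submodule.span_insert_zero] at hr
      have := finrank_span_le_card (R := k) ({(X - C b) ^ eb * G} : Set k[X])
      simp at this
      omega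
    · rw [Set.pair_comm, Submodule.span_insert_zero] at hr
      have := finrank_span_le_card (R := k) ({(X - C a) ^ ea * F} : Set k[X])
      simp at this
      omega
  have m₁ : (X - C a) ^ ea * F₁ ∈ V ∧ (X - C b) ^ eb * G₁ ∈ V := by
    rw [hV₁]; exact ⟨Submodule.subset_span (by simp), Submodule.subset_span (by simp)⟩
  have m₂ : (X - C a) ^ ea * F₂ ∈ V ∧ (X - C b) ^ eb * G₂ ∈ V := by
    rw [hV₂]; exact ⟨Submodule.subset_span (by simp), Submodule.subset_span (by simp)⟩
  have hroot : ∀ (z : k) (m : ℕ), 1 ≤ m → ∀ H : k[X], ((X - C z) ^ m * H).IsRoot z := fun z m hm H => by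
    simp [IsRoot.def, zero_pow (show m ≠ 0 by omega)]
  obtain ⟨hF₂, hG₂⟩ := hne hV₂
  obtain ⟨x, hx⟩ := members_at_point hV m₂.1 (mul_ne_zero (pow_ne_zero _ (X_sub_C_ne_zero a)) hF₂)
    (hroot a ea ha F₂) m₁.1 (hroot a ea ha F₁)
  obtain ⟨y, hy⟩ := members_at_point hV m₂.2 (mul_ne_zero (pow_ne_zero _ (X_sub_C_ne_zero b)) hG₂)
    (hroot b eb hb G₂) m₁.2 (hroot b eb hb G₁)
  have ex : F₁ = C x * F₂ := mul_left_cancel₀ (pow_ne_zero ea (X_sub_C_ne_zero a)) (by rw [hx]; ring)
  have ey : G₁ = C y * G₂ := mul_left_cancel₀ (pow_ne_zero eb (X_sub_C_ne_zero b)) (by rw [hy]; ring)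
  rw [Submodule.span_le]
  rintro z (rfl | rfl)
  · rw [ey, mul_left_comm, ← smul_eq_C_mul]
    exact Submodule.smul_mem _ _ (Submodule.subset_span (by simp))
  · rw [ex, mul_left_comm, ← smul_eq_C_mul]
    exact Submodule.smul_mem _ _ (Submodule.subset_span (by simp))

end RamP129
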