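import Groth.Agent.Lib.RamP1_29.Schubert
import Groth.Agent.Lib.TanDim29.Basic

/-!
# Pencils with ramification at general points
-/

set_option autoImplicit false
set_option linter.unusedSectionVars false
set_option linter.unusedSimpArgs false

universe u

namespace RamP129

open Polynomial

/-! ### first order expansions -/

theorem taylor_eps {A : Type u} [CommRing A] {ε : A} (hε : ε * ε = 0) (a : A) (f : A[X]) :
    taylor (ε * a) f = f + C (ε * a) * derivative f := by
  induction f using Polynomial.induction_on with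
  | C b => simp
  | add f g hf hg => simp [hf, hg]; ring
  | monomial m b h =>
    have hX : taylor (ε * a) (X : A[X]) = X + C (ε * a) := by simp
    rw [show C b * X ^ (m + 1) = (C b * X ^ m) * X by ring, taylor_mul, h, hX,
      derivative_mul (f := C b * X ^ m), derivative_X, mul_one]
    have h0 : (C (ε * a) : A[X]) * C (ε * a) = 0 := by
      rw [← C_mul, show ε * a * (ε * a) = ε * ε * (a * a) by ring, hε, zero_mul, C_0]
    linear_combination (derivative (C b * X ^ m)) * h0

theorem taylor_first_order {k A : Type u} [Field k] [CommRing A] (ι : k →+* A) {ε : A}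
    (hε : ε * ε = 0) (P dP : k) (F dF : k[X]) :
    taylor (ι P + ε * ι dP) (F.map ι + C ε * dF.map ι) =
      (taylor P F).map ι + C ε * (taylor P dF + C dP * derivative (taylor P F)).map ι := by
  rw [add_comm (ι P), ← taylor_taylor, map_add, taylor_mul, taylor_C, ← map_taylor, ← map_taylor,
    taylor_eps hε, Polynomial.map_add, Polynomial.map_mul, map_C, ← derivative_map, derivative_add,
    derivative_C_mul, C_mul]
  have h0 : (C ε : A[X]) * C ε = 0 := by rw [← C_mul, hε, C_0]
  linear_combination (C (ι dP) * derivative ((taylor P dF).map ι)) * h0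

/-- linearisation of a minor -/
theorem minor_eps {k A : Type u} [Field k] [CommRing A] (ι : k →+* A) {ε : A} (hε : ε * ε = 0)
    (hinj : ∀ x, ε * ι x = 0 → x = 0) {a b c e a' b' c' e' : k} (h : a * b - c * e = 0)
    (h' : (ι a + ε * ι a') * (ι b + ε * ι b') - (ι c + ε * ι c') * (ι e + ε * ι e') = 0) :
    a' * b + a * b' - c' * e - c * e' = 0 := by
  apply hinj
  have h1 : ι a * ι b - ι c * ι e = 0 := by rw [← map_mul, ← map_mul, ← map_sub, h, map_zero]
  simp only [map_add, map_sub, map_mul]
  linear_combination h' - h1 - (ι a' * ι b' - ι c' * ι e') * hε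

variable {k : Type u} [Field k]

theorem pow_dvd_iff_taylor (P : k) (N : ℕ) (f : k[X]) :
    (X - C P) ^ N ∣ f ↔ ∀ r < N, (taylor P f).coeff r = 0 := by
  rw [← X_pow_dvd_iff]
  constructor
  · rintro ⟨g, rfl⟩
    exact ⟨taylor P g, by simp [taylor_apply, mul_comp, pow_comp, sub_comp]⟩
  · rintro ⟨g, hg⟩
    refine ⟨taylor (-P) g, ?_⟩
    have := congrArg (taylor (-P)) hg
    simpa [taylor_taylor, taylor_apply, mul_comp, pow_comp, comp_assoc, sub_eq_add_neg] using this

section Incidence

variable (d n : ℕ)

/-- variables -/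
abbrev Var : Type := Fin n ⊕ ((Bool × Fin (d + 1)) ⊕ Bool)

variable {d n} {A : Type u} [CommRing A]

noncomputable def Fp (u : Var d n → A) (c : Bool) : A[X] :=
  ∑ j : Fin (d + 1), monomial (j : ℕ) (u (Sum.inr (Sum.inl (c, j))))

theorem coeff_Fp (u : Var d n → A) (c : Bool) (j : Fin (d + 1)) :
    (Fp u c).coeff (j : ℕ) = u (Sum.inr (Sum.inl (c, j))) := by
  simp [Fp, finsetSum_coeff, coeff_monomial, Fin.val_inj]

theorem natDegree_Fp_le (u : Var d n → A) (c : Bool) : (Fp u c).natDegree ≤ d :=
  natDegree_sum_le_of_forall_le _ _ fun i _ => (natDegree_monomial_le _).trans (Fin.is_le i)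

/-- the equations -/
inductive Eqn (d n : ℕ) (e : Fin n → ℕ) : Type
  | piv (c : Bool) (t : Bool)
  | minor (i : Fin n) (r s : ℕ) (hr : r < e i) (hs : s < e i)
  | lam
  | disc

/-- the separation equation -/
noncomputable def sepEq (u : Var d n → A) (i j : Fin n) : A :=
  (Fp u false).eval (u (Sum.inl i)) * (Fp u true).eval (u (Sum.inl j)) -
    (Fp u false).eval (u (Sum.inl j)) * (Fp u true).eval (u (Sum.inl i))

/-- the Vandermonde product -/
noncomputable def vdm (u : Fin n → A) : A :=
  ∏ ij ∈ (Finset.univ : Finset (Fin n)).offDiag, (u ij.1 - u ij.2)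

noncomputable def eqv (e : Fin n → ℕ) (a b : Fin (d + 1)) (u : Var d n → A) : Eqn d n e → A
  | .piv c t => u (Sum.inr (Sum.inl (c, if t then b else a))) - if c = t then 1 else 0
  | .minor i r s _ _ =>
      (taylor (u (Sum.inl i)) (Fp u false)).coeff r * (taylor (u (Sum.inl i)) (Fp u true)).coeff s -
      (taylor (u (Sum.inl i)) (Fp u false)).coeff s * (taylor (u (Sum.inl i)) (Fp u true)).coeff r
  | .lam => u (Sum.inr (Sum.inr false)) *
      (wronskian (Fp u false) (Fp u true)).coeff (∑ i, (e i - 1)) - 1
  | .disc => u (Sum.inr (Sum.inr true)) * vdm (fun i => u (Sum.inl i)) - 1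

variable {B : Type u} [CommRing B] (φ : A →+* B)

theorem map_Fp (u : Var d n → A) (c : Bool) : (Fp u c).map φ = Fp (φ ∘ u) c := by
  simp [Fp, Polynomial.map_sum, Polynomial.map_monomial]

theorem map_sepEq (u : Var d n → A) (i j : Fin n) : φ (sepEq u i j) = sepEq (φ ∘ u) i j := by
  simp only [sepEq, map_sub, map_mul, ← eval_map_apply, map_Fp, Function.comp_apply]

theorem map_eqv (e : Fin n → ℕ) (a b : Fin (d + 1)) (u : Var d n → A) (E : Eqn d n e) :
    φ (eqv e a b u E) = eqv e a b (φ ∘ u) E := by
  cases E with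
  | piv c t => simp [eqv, apply_ite φ]
  | minor i r s hr hs =>
    simp only [eqv, map_sub, map_mul, ← coeff_map, map_taylor, map_Fp, Function.comp_apply]
  | lam =>
    simp only [eqv, map_sub, map_mul, map_one, ← coeff_map, wronskian_map, map_Fp,
      Function.comp_apply]
  | disc => simp [eqv, vdm, map_prod]

end Incidence

variable {d n : ℕ}

/-- the equations as polynomials -/
noncomputable def gens (e : Fin n → ℕ) (a b : Fin (d + 1)) : Set (MvPolynomial (Var d n) k) :=
  Set.range (eqv e a b (fun s => MvPolynomial.X s))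

/-- with a separation condition -/
noncomputable def gensSep (e : Fin n → ℕ) (a b : Fin (d + 1)) (i j : Fin n) :
    Set (MvPolynomial (Var d n) k) :=
  gens e a b ∪ {sepEq (fun s => MvPolynomial.X s) i j}

theorem eval_eqv (e : Fin n → ℕ) (a b : Fin (d + 1)) (v : Var d n → k) (E : Eqn d n e) :
    MvPolynomial.eval v (eqv e a b (fun s => MvPolynomial.X s) E) = eqv e a b v E := by
  rw [map_eqv]; congr 1; funext s; simp

theorem eval_sepEq (v : Var d n → k) (i j : Fin n) :
    MvPolynomial.eval v (sepEq (fun s => MvPolynomial.X s) i j) = sepEq v i j := by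
  rw [map_sepEq]; congr 1; funext s; simp

/-- the point with dual number coordinates -/
def dualPt {τ : Type} (v w : τ → k) : τ → DualNumber k :=
  fun s => TrivSqZeroExt.inl (v s) + TrivSqZeroExt.inr (w s)

theorem eqv_dual (e : Fin n → ℕ) (a b : Fin (d + 1)) {v w : Var d n → k}
    (hv : ∀ g ∈ gens e a b, MvPolynomial.eval v g = 0)
    (hw : w ∈ TanDim29.tan (gens e a b) v) (E : Eqn d n e) :
    eqv e a b (dualPt v w) E = 0 := by
  have hg : eqv e a b (fun s => (MvPolynomial.X s : MvPolynomial (Var d n) k)) E ∈ gens e a b :=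
    ⟨E, rfl⟩
  have h := TanDim29.aeval_dual v w (eqv e a b (fun s => MvPolynomial.X s) E)
  rw [hv _ hg, TanDim29.mem_tan_iff.1 hw _ hg] at h
  have h2 := map_eqv ((MvPolynomial.aeval (dualPt v w) : MvPolynomial (Var d n) k →ₐ[k] DualNumber k)).toRingHom e a b
    (fun s => (MvPolynomial.X s : MvPolynomial (Var d n) k)) E
  have h3 : ((MvPolynomial.aeval (dualPt v w) : MvPolynomial (Var d n) k →ₐ[k] DualNumber k)).toRingHom ∘ (fun s => MvPolynomial.X s) = dualPt v w := by
    funext s; simp
  rw [h3] at h2
  rw [← h2]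
  exact h.trans (by simp)

theorem dualPt_apply {τ : Type} (v w : τ → k) (s : τ) :
    dualPt v w s = TrivSqZeroExt.inlHom k k (v s) + DualNumber.eps * TrivSqZeroExt.inlHom k k (w s) := by
  refine TrivSqZeroExt.ext ?_ ?_
  · simp [dualPt, DualNumber.fst_eps]
  · simp [dualPt, DualNumber.snd_mul, DualNumber.fst_eps, DualNumber.snd_eps]

theorem Fp_dual (v w : Var d n → k) (c : Bool) :
    Fp (dualPt v w) c = (Fp v c).map (TrivSqZeroExt.inlHom k k) +
      C (DualNumber.eps : DualNumber k) * (Fp w c).map (TrivSqZeroExt.inlHom k k) := by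
  simp only [Fp, Polynomial.map_sum, Polynomial.map_monomial, Finset.mul_sum, C_mul_monomial, ← Finset.sum_add_distrib, ← map_add]
  refine Finset.sum_congr rfl fun j _ => ?_
  rw [dualPt_apply]

theorem eps_inl_inj (x : k) (h : DualNumber.eps * TrivSqZeroExt.inlHom k k x = 0) : x = 0 := by
  have := congrArg TrivSqZeroExt.snd h
  simpa [DualNumber.snd_mul, DualNumber.fst_eps, DualNumber.snd_eps] using this

theorem eps_sq : (DualNumber.eps : DualNumber k) * DualNumber.eps = 0 := DualNumber.eps_mul_eps

/-- the taylor coefficients at a dual point -/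
theorem taylor_dual (v w : Var d n → k) (c : Bool) (i : Fin n) (r : ℕ) :
    (taylor (dualPt v w (Sum.inl i)) (Fp (dualPt v w) c)).coeff r =
      TrivSqZeroExt.inlHom k k ((taylor (v (Sum.inl i)) (Fp v c)).coeff r) +
        DualNumber.eps * TrivSqZeroExt.inlHom k k ((taylor (v (Sum.inl i)) (Fp w c) +
          C (w (Sum.inl i)) * derivative (taylor (v (Sum.inl i)) (Fp v c))).coeff r) := by
  rw [dualPt_apply, Fp_dual, taylor_first_order _ eps_sq, coeff_add, coeff_C_mul, coeff_map, coeff_map]

section Point

variable [IsAlgClosed k] {p : ℕ} [CharP k p] {e : Fin n → ℕ} {a b : Fin (d + 1)}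
  (he : W4c1limliniiii.Admissible p d e) {v : Var d n → k}
  (hv : ∀ g ∈ gens e a b, MvPolynomial.eval v g = 0)

include hv in
theorem point_eq (E : Eqn d n e) : eqv e a b v E = 0 := by
  rw [← eval_eqv]; exact hv _ ⟨E, rfl⟩

include hv in
theorem point_piv : (Fp v false).coeff (a : ℕ) = 1 ∧ (Fp v false).coeff (b : ℕ) = 0 ∧
    (Fp v true).coeff (a : ℕ) = 0 ∧ (Fp v true).coeff (b : ℕ) = 1 := by
  have h1 := point_eq hv (Eqn.piv false false)
  have h2 := point_eq hv (Eqn.piv false true)
  have h3 := point_eq hv (Eqn.piv true false)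
  have h4 := point_eq hv (Eqn.piv true true)
  simp only [eqv, Bool.false_eq_true, Bool.true_eq_false, if_true, if_false, sub_eq_zero] at h1 h2 h3 h4
  simp [coeff_Fp, h1, h2, h3, h4]

include hv in
theorem point_inj : Function.Injective fun i => v (Sum.inl i) := by
  intro i j hij
  by_contra hne
  have h := point_eq hv Eqn.disc
  have h0 : vdm (fun i => v (Sum.inl i)) = 0 :=
    Finset.prod_eq_zero (i := (i, j)) (by simp [hne]) (sub_eq_zero.2 hij)
  simp [eqv, h0] at h

include he hv in
theorem point_mem : Submodule.span k {Fp v false, Fp v true} ∈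
      W4c1limliniiii.ramMaps d (fun i => v (Sum.inl i)) e ∧
    LinearIndependent k ![Fp v false, Fp v true] := by
  obtain ⟨p1, p2, p3, p4⟩ := point_piv hv
  set F := Fp v false with hF
  set G := Fp v true with hG
  have hind : LinearIndependent k ![F, G] := by
    rw [LinearIndependent.pair_iff]
    intro x y hxy
    have h1 := congrArg (fun f => f.coeff (a : ℕ)) hxy
    have h2 := congrArg (fun f => f.coeff (b : ℕ)) hxy
    simp [p1, p2, p3, p4] at h1 h2
    exact ⟨h1, h2⟩
  refine ⟨?_, hind⟩
  have hlam : (wronskian F G).coeff (∑ i, (e i - 1)) ≠ 0 := by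
    intro h
    have h' := point_eq hv Eqn.lam
    simp [eqv, ← hF, ← hG, h] at h'
  have hS : InSchubert d (fun i => v (Sum.inl i)) e (Submodule.span k {F, G}) := by
    refine ⟨?_, ?_, fun i => ?_⟩
    · rw [Submodule.span_le]
      rintro y (rfl | rfl) <;>
        exact mem_degreeLE.2 (natDegree_le_iff_degree_le.1 (natDegree_Fp_le _ _))
    · rw [← Matrix.range_cons_cons_empty F G ![], finrank_span_eq_card hind]; rfl
    · set P := v (Sum.inl i)
      have hmin : ∀ r s, r < e i → s < e i → (taylor P F).coeff r * (taylor P G).coeff s -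
          (taylor P F).coeff s * (taylor P G).coeff r = 0 := fun r s hr hs =>
        point_eq hv (Eqn.minor i r s hr hs)
      obtain ⟨x, y, hxy, hz⟩ : ∃ x y : k, (x ≠ 0 ∨ y ≠ 0) ∧
          ∀ s < e i, x * (taylor P F).coeff s + y * (taylor P G).coeff s = 0 := by
        by_cases hall : ∀ r < e i, (taylor P F).coeff r = 0 ∧ (taylor P G).coeff r = 0
        · exact ⟨1, 0, Or.inl one_ne_zero, fun s hs => by simp [(hall s hs).1]⟩
        · push Not at hall
          obtain ⟨r, hr, hr'⟩ := hall
          refine ⟨(taylor P G).coeff r, -(taylor P F).coeff r, ?_, fun s hs => ?_⟩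
          · by_cases h : (taylor P F).coeff r = 0
            · exact Or.inl (hr' h)
            · exact Or.inr (neg_ne_zero.2 h)
          · linear_combination hmin s r hs hr
      have hne : x • F + y • G ≠ 0 := fun h => by
        have := LinearIndependent.pair_iff.1 hind x y h
        tauto
      refine ⟨x • F + y • G, Submodule.mem_span_pair.2 ⟨x, y, rfl⟩, hne, ?_⟩
      rw [le_rootMultiplicity_iff hne, pow_dvd_iff_taylor]
      intro s hs
      simpa using hz s hs
  refine mem_ramMaps_of_schubert (point_inj hv) he hS ⟨F, Submodule.subset_span (by simp), G,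
    Submodule.subset_span (by simp), fun h => hlam (by rw [h, coeff_zero])⟩

/-- the space receiving `δF·G - F·δG` -/
noncomputable def omegaSpace (R : Fin n → k[X]) (e : Fin n → ℕ) (P : Fin n → k) :
    Submodule k k[X] where
  carrier := {ω | ω ∈ degreeLT k (2 * d + 1) ∧
    ∀ i, (X - C (P i)) ^ (e i - 1) ∣ ω - C (ω.eval (P i)) * R i ^ 2}
  add_mem' := by
    rintro x y ⟨x1, x2⟩ ⟨y1, y2⟩
    refine ⟨add_mem x1 y1, fun i => ?_⟩
    have := dvd_add (x2 i) (y2 i)
    convert this using 1
    simp [eval_add]; ring
  zero_mem' := ⟨Submodule.zero_mem _, fun i => by simp⟩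
  smul_mem' := by
    rintro c x ⟨x1, x2⟩
    refine ⟨Submodule.smul_mem _ c x1, fun i => ?_⟩
    have := (x2 i).mul_left (C c)
    convert this using 1
    simp [smul_eq_C_mul, eval_mul]; ring

theorem finrank_le_of_omega {P : Fin n → k} (hP : Function.Injective P) {R : Fin n → k[X]}
    (he : W4c1limliniiii.Admissible p d e) (W : Submodule k k[X])
    (hW : W ≤ omegaSpace (d := d) R e P) (J : Finset (Fin n))
    (hJ : ∀ ω ∈ W, (∀ i ∈ J, ω.eval (P i) = 0) → ∀ i, ω.eval (P i) = 0) :
    Module.Finite k W ∧ Module.finrank k W ≤ J.card + 3 := by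
  haveI : Module.Finite k (degreeLT k (2 * d + 1)) :=
    Module.Finite.equiv (degreeLTEquiv k (2 * d + 1)).symm
  haveI : Module.Finite k (degreeLT k 3) := Module.Finite.equiv (degreeLTEquiv k 3).symm
  haveI hfin : Module.Finite k W :=
    Module.Finite.of_injective (Submodule.inclusion (fun x hx => (hW hx).1))
      (Submodule.inclusion_injective _)
  refine ⟨hfin, ?_⟩
  let ev : W →ₗ[k] (J → k) := LinearMap.pi fun i => (leval (P i)).comp W.subtype
  have hT : (ramPoly P e).Monic := ramPoly_monic P e
  have hker : Module.finrank k (LinearMap.ker ev) ≤ 3 := by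
    set μ : k[X] →ₗ[k] k[X] := LinearMap.mulLeft k (ramPoly P e)
    have hle : (LinearMap.ker ev).map W.subtype ≤ (degreeLT k 3).map μ := by
      rintro _ ⟨x, hx, rfl⟩
      have hx' : ∀ i ∈ J, (x : k[X]).eval (P i) = 0 := fun i hi =>
        congrFun (LinearMap.mem_ker.1 hx) ⟨i, hi⟩
      have h0 := hJ _ x.2 hx'
      obtain ⟨q, hq⟩ : ramPoly P e ∣ (x : k[X]) := by
        refine Finset.prod_dvd_of_coprime (fun i _ j _ hij =>
          (pairwise_coprime_X_sub_C hP hij).pow) fun i _ => ?_
        simpa [h0 i] using (hW x.2).2 i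
      refine ⟨q, ?_, hq.symm⟩
      rw [SetLike.mem_coe, mem_degreeLT]
      by_cases hz : q = 0
      · rw [hz, degree_zero]; exact WithBot.bot_lt_coe _
      rw [← natDegree_lt_iff_degree_lt hz]
      have hx0 : (x : k[X]) ≠ 0 := by rw [hq]; exact mul_ne_zero hT.ne_zero hz
      have h2 := (natDegree_lt_iff_degree_lt hx0).2 (mem_degreeLT.1 (hW x.2).1)
      rw [hq, natDegree_mul hT.ne_zero hz, natDegree_ramPoly] at h2
      have := sum_e_sub_one he
      omega
    calc Module.finrank k (LinearMap.ker ev)
        = Module.finrank k ((LinearMap.ker ev).map W.subtype) :=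
          (Submodule.equivMapOfInjective W.subtype W.injective_subtype _).finrank_eq
      _ ≤ Module.finrank k ((degreeLT k 3).map μ) := Submodule.finrank_mono hle
      _ ≤ Module.finrank k (degreeLT k 3) := Submodule.finrank_map_le μ _
      _ = 3 := by rw [(degreeLTEquiv k 3).finrank_eq, Module.finrank_fin_fun]
  have h1 := LinearMap.finrank_range_add_finrank_ker ev
  have h2 : Module.finrank k (LinearMap.range ev) ≤ J.card := by
    refine (Submodule.finrank_le _).trans ?_
    simp
  omega

include he hv in
theorem tan_bound :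
    Module.finrank k (TanDim29.tan (gens e a b) v) ≤ n ∧
    ∀ i j, i ≠ j → sepEq v i j = 0 →
      Module.finrank k (TanDim29.tan (gensSep e a b i j) v) < n := by
  classical
  obtain ⟨p1, p2, p3, p4⟩ := point_piv hv
  obtain ⟨hV, hind⟩ := point_mem he hv
  have hFd0 : (Fp v false).natDegree ≤ d := natDegree_Fp_le v false
  have hGd0 : (Fp v true).natDegree ≤ d := natDegree_Fp_le v true
  set P : Fin n → k := fun i => v (Sum.inl i) with hP
  have hPi : Function.Injective P := point_inj hv
  set F := Fp v false with hFdef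
  set G := Fp v true with hGdef
  -- members with value one
  have hR : ∀ i, ∃ x y : k, x * F.eval (P i) + y * G.eval (P i) = 1 := by
    intro i
    obtain ⟨s, hs, hs0⟩ := hV.1.2.2.2 (P i)
    obtain ⟨x, y, rfl⟩ := Submodule.mem_span_pair.1 hs
    simp at hs0
    refine ⟨x / (x * F.eval (P i) + y * G.eval (P i)), y / (x * F.eval (P i) + y * G.eval (P i)), ?_⟩
    field_simp
  choose x y hxy using hR
  set R : Fin n → k[X] := fun i => C (x i) * F + C (y i) * G with hRdef
  -- facts at each point
  have hsdvd : ∀ i, (X - C (P i)) ^ e i ∣ C (G.eval (P i)) * F - C (F.eval (P i)) * G := by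
    intro i
    rw [pow_dvd_iff_taylor]
    intro r hr
    have h := point_eq hv (Eqn.minor i r 0 hr (by have := (he.1 i).1; omega))
    simp [eqv, taylor_coeff_zero] at h ⊢
    linear_combination h
  have hFR : ∀ i, (X - C (P i)) ^ e i ∣ F - C (F.eval (P i)) * R i ∧
      (X - C (P i)) ^ e i ∣ G - C (G.eval (P i)) * R i := by
    intro i
    have h1 : C (x i) * C (F.eval (P i)) + C (y i) * C (G.eval (P i)) = (1 : k[X]) := by
      rw [← C_mul, ← C_mul, ← C_add, hxy, C_1]
    constructor
    · have : F - C (F.eval (P i)) * R i = C (y i) * (C (G.eval (P i)) * F - C (F.eval (P i)) * G) := by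
        simp only [hRdef]; linear_combination (-F) * h1
      rw [this]; exact (hsdvd i).mul_left _
    · have : G - C (G.eval (P i)) * R i = (-C (x i)) * (C (G.eval (P i)) * F - C (F.eval (P i)) * G) := by
        simp only [hRdef]; linear_combination (-G) * h1
      rw [this]; exact (hsdvd i).mul_left _
  have hR1 : ∀ i, (R i).eval (P i) = 1 := fun i => by simp [hRdef, hxy]
  -- local analysis of a tangent vector
  set δF : (Var d n → k) → k[X] := fun w => Fp w false
  set δG : (Var d n → k) → k[X] := fun w => Fp w true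
  let ω : (Var d n → k) →ₗ[k] k[X] :=
    { toFun := fun w => δF w * G - F * δG w
      map_add' := fun w w' => by
        simp only [δF, δG, Fp, Pi.add_apply, map_add, Finset.sum_add_distrib]; ring
      map_smul' := fun c w => by
        simp only [δF, δG, Fp, Pi.smul_apply, map_smul, smul_eq_C_mul, ← Finset.mul_sum, RingHom.id_apply]
        ring }
  have hloc : ∀ w ∈ TanDim29.tan (gens e a b) v, ∀ i,
      (X - C (P i)) ^ (e i - 1) ∣ ω w - C ((ω w).eval (P i)) * R i ^ 2 ∧
      (δF w = 0 → δG w = 0 → w (Sum.inl i) = 0) := by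
    intro w hw i
    set q := P i with hq
    set δP := w (Sum.inl i) with hδP
    obtain ⟨m, hm⟩ : ∃ m, e i = m + 2 := ⟨e i - 2, by have := (he.1 i).1; omega⟩
    set f := taylor q F with hf
    set g := taylor q G with hg
    set df := taylor q (δF w) with hdf
    set dg := taylor q (δG w) with hdg
    set F0 := F.eval q
    set G0 := G.eval q
    have hlin : ∀ r < e i, (df + C δP * derivative f).coeff r * G0 +
        f.coeff r * (dg + C δP * derivative g).coeff 0 -
        (df + C δP * derivative f).coeff 0 * g.coeff r -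
        F0 * (dg + C δP * derivative g).coeff r = 0 := by
      intro r hr
      have h0 : (f.coeff r) * G0 - F0 * g.coeff r = 0 := by
        have h := point_eq hv (Eqn.minor i r 0 hr (by omega))
        simpa [eqv, taylor_coeff_zero] using h
      have h := eqv_dual e a b hv hw (Eqn.minor i r 0 hr (by omega))
      simp only [eqv, taylor_dual] at h
      rw [taylor_coeff_zero, taylor_coeff_zero] at h
      exact minor_eps _ eps_sq eps_inl_inj h0 h
    set ρ := taylor q (R i) with hρ
    have hfρ : X ^ e i ∣ f - C F0 * ρ := by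
      rw [X_pow_dvd_iff]; intro r hr
      have := (pow_dvd_iff_taylor q (e i) _).1 (hFR i).1 r hr
      simpa [hf, hρ] using this
    have hgρ : X ^ e i ∣ g - C G0 * ρ := by
      rw [X_pow_dvd_iff]; intro r hr
      have := (pow_dvd_iff_taylor q (e i) _).1 (hFR i).2 r hr
      simpa [hg, hρ] using this
    set s := C G0 * f - C F0 * g with hs
    have hsX : X ^ e i ∣ s := by
      rw [X_pow_dvd_iff]; intro r hr
      have := (pow_dvd_iff_taylor q (e i) _).1 (hsdvd i) r hr
      simpa [hs, hf, hg] using this
    have hs' : X ^ (e i - 1) ∣ derivative s := by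
      rw [X_pow_dvd_iff]; intro r hr
      rw [coeff_derivative, (X_pow_dvd_iff.1 hsX) (r + 1) (by omega), zero_mul]
    set δs := C G0 * df - C F0 * dg with hδs
    set c := δs.coeff 0 with hc
    have hkey : X ^ e i ∣ δs + C δP * derivative s - C c * ρ := by
      rw [X_pow_dvd_iff]
      intro r hr
      have h := hlin r hr
      have h1 : f.coeff r = F0 * ρ.coeff r := by
        simpa [sub_eq_zero] using (X_pow_dvd_iff.1 hfρ) r hr
      have h2 : g.coeff r = G0 * ρ.coeff r := by
        simpa [sub_eq_zero] using (X_pow_dvd_iff.1 hgρ) r hr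
      have h3 : (derivative s).coeff 0 = 0 := (X_pow_dvd_iff.1 hs') 0 (by omega)
      simp only [hs, derivative_sub, derivative_C_mul, coeff_sub, coeff_C_mul] at h3
      simp only [hc, hδs, hs, derivative_sub, derivative_C_mul, coeff_add, coeff_sub, coeff_C_mul]
      rw [h1, h2] at h
      simp only [coeff_add, coeff_C_mul] at h
      linear_combination h + (δP * ρ.coeff r) * h3
    have hρ0 : ρ.coeff 0 = 1 := by rw [hρ, taylor_coeff_zero]; exact hR1 i
    have hω0 : (ω w).eval q = c := by
      show (δF w * G - F * δG w).eval q = c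
      simp [hc, hδs, df, dg, taylor_coeff_zero, eval_sub, eval_mul]; ring
    refine ⟨?_, fun hdF hdG => ?_⟩
    · rw [pow_dvd_iff_taylor, ← X_pow_dvd_iff]
      have htay : taylor q (ω w - C ((ω w).eval q) * R i ^ 2) = df * g - f * dg - C c * ρ ^ 2 := by
        rw [hω0]
        show taylor q (δF w * G - F * δG w - C c * R i ^ 2) = _
        simp [df, dg, hf, hg, hρ, taylor_mul, taylor_pow]
      rw [htay]
      obtain ⟨t1, ht1⟩ := hfρ
      obtain ⟨t2, ht2⟩ := hgρ
      obtain ⟨t3, ht3⟩ := hkey
      obtain ⟨t4, ht4⟩ := hs'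
      have hX : (X : k[X]) ^ e i = X ^ (e i - 1) * X := by
        rw [← pow_succ]; congr 1; omega
      refine ⟨df * X * t2 - X * t1 * dg + ρ * (X * t3 - C δP * t4), ?_⟩
      rw [hX] at ht1 ht2 ht3
      linear_combination df * ht2 - dg * ht1 + ρ * ht3 - (ρ * C δP) * ht4 - ρ * hδs
    · have hδs0 : δs = 0 := by simp [hδs, df, dg, hdF, hdG]
      have hc0 : c = 0 := by simp [hc, hδs0]
      have h := (X_pow_dvd_iff.1 hkey) (e i - 1) (by omega)
      rw [hδs0, hc0, C_0, zero_mul, sub_zero, zero_add, coeff_C_mul, coeff_derivative,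
        show e i - 1 + 1 = e i by omega] at h
      set S := C G0 * F - C F0 * G with hSdef
      have hS0 : S ≠ 0 := by
        intro h0
        have := LinearIndependent.pair_iff.1 hind G0 (-F0) (by
          rw [smul_eq_C_mul, smul_eq_C_mul, map_neg]; linear_combination h0)
        have hx := hxy i
        rw [show F.eval (P i) = 0 from neg_eq_zero.1 this.2,
          show G.eval (P i) = 0 from this.1] at hx
        simp at hx
      have hSm : S ∈ Submodule.span k {F, G} := by
        rw [hSdef, ← smul_eq_C_mul, ← smul_eq_C_mul]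
        exact sub_mem (Submodule.smul_mem _ _ (Submodule.subset_span (by simp)))
          (Submodule.smul_mem _ _ (Submodule.subset_span (by simp)))
      have hse : s.coeff (e i) ≠ 0 := by
        intro hz
        have : (X - C q) ^ (e i + 1) ∣ S := by
          rw [pow_dvd_iff_taylor]
          intro r hr
          have hts : taylor q S = s := by simp [hSdef, hs, hf, hg]
          rw [hts]
          rcases Nat.lt_succ_iff_lt_or_eq.1 hr with h' | rfl
          · exact (X_pow_dvd_iff.1 hsX) r h'
          · exact hz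
        have h1 := (le_rootMultiplicity_iff hS0).2 this
        have h2 : rootMultiplicity q S ≤ e i := (hV.2.2 i).2 S hSm hS0
        omega
      have hek : ((e i - 1 : ℕ) : k) + 1 ≠ 0 := by
        rw [← Nat.cast_add_one, show e i - 1 + 1 = e i by omega, Ne, CharP.cast_eq_zero_iff k p]
        exact (he.1 i).2.2
      rcases mul_eq_zero.1 h with h' | h'
      · exact h'
      · exact absurd h' (mul_ne_zero hse hek)
  -- the linear map
  let tgt : (Fin 3 → k) →ₗ[k] k[X] :=
    { toFun := fun c => C (c 0) * F ^ 2 + C (c 1) * (F * G) + C (c 2) * G ^ 2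
      map_add' := fun c c' => by simp; ring
      map_smul' := fun r c => by simp [smul_eq_C_mul]; ring }
  have htgt : ∀ c, tgt c ∈ omegaSpace (d := d) R e P := by
    intro c
    refine ⟨?_, fun i => ?_⟩
    · rw [mem_degreeLT, Nat.cast_add, Nat.cast_one]
      have : (tgt c).natDegree ≤ 2 * d := by
        refine natDegree_add_le_of_degree_le (natDegree_add_le_of_degree_le ?_ ?_) ?_ <;>
          refine (natDegree_C_mul_le _ _).trans ?_
        · exact natDegree_pow_le.trans (by omega)
        · exact natDegree_mul_le.trans (by omega)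
        · exact natDegree_pow_le.trans (by omega)
      refine lt_of_le_of_lt (natDegree_le_iff_degree_le.1 this) ?_
      exact_mod_cast Nat.lt_succ_self _
    · obtain ⟨t1, ht1⟩ := hFR i
      refine (pow_dvd_pow _ (Nat.sub_le (e i) 1)).trans ?_
      obtain ⟨t, ht⟩ := t1
      obtain ⟨t', ht'⟩ := ht1
      refine ⟨C (c 0) * t * (F + C (F.eval (P i)) * R i) +
        C (c 1) * (t * G + C (F.eval (P i)) * R i * t') +
        C (c 2) * t' * (G + C (G.eval (P i)) * R i), ?_⟩
      show (C (c 0) * F ^ 2 + C (c 1) * (F * G) + C (c 2) * G ^ 2) -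
        C ((C (c 0) * F ^ 2 + C (c 1) * (F * G) + C (c 2) * G ^ 2).eval (P i)) * R i ^ 2 = _
      simp only [eval_add, eval_mul, eval_C, eval_pow, C_add, C_mul, C_pow]
      linear_combination (C (c 0) * (F + C (F.eval (P i)) * R i) + C (c 1) * G) * ht +
        (C (c 1) * (C (F.eval (P i)) * R i) + C (c 2) * (G + C (G.eval (P i)) * R i)) * ht'
  have hωmem : ∀ w ∈ TanDim29.tan (gens e a b) v, ω w ∈ omegaSpace (d := d) R e P := by
    intro w hw
    refine ⟨?_, fun i => (hloc w hw i).1⟩
    rw [mem_degreeLT, Nat.cast_add, Nat.cast_one]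
    have h3 : (δF w).natDegree ≤ d := natDegree_Fp_le w false
    have h4 : (δG w).natDegree ≤ d := natDegree_Fp_le w true
    have : (ω w).natDegree ≤ 2 * d :=
      (natDegree_sub_le _ _).trans (max_le (natDegree_mul_le.trans (by omega))
        (natDegree_mul_le.trans (by omega)))
    refine lt_of_le_of_lt (natDegree_le_iff_degree_le.1 this) ?_
    exact_mod_cast Nat.lt_succ_self _
  -- injectivity
  have hinj : ∀ w ∈ TanDim29.tan (gens e a b) v, ∀ c : Fin 3 → k, ω w + tgt c = 0 → w = 0 ∧ c = 0 := by
    intro w hw c hwc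
    have hpw : ∀ cc t : Bool, w (Sum.inr (Sum.inl (cc, if t then b else a))) = 0 := by
      intro cc t
      have h := eqv_dual e a b hv hw (Eqn.piv cc t)
      have := congrArg TrivSqZeroExt.snd h
      by_cases hct : cc = t <;> simpa [eqv, dualPt, hct] using this
    have wFa := hpw false false
    have wFb := hpw false true
    have wGa := hpw true false
    have wGb := hpw true true
    simp only [Bool.false_eq_true, if_false, if_true] at wFa wFb wGa wGb
    have hcop : IsCoprime F G := by
      rw [Polynomial.isCoprime_iff_aeval_ne_zero_of_isAlgClosed (K := k) (k := k)]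
      intro z
      by_contra hz
      push Not at hz
      obtain ⟨t, ht, ht0⟩ := hV.1.2.2.2 z
      obtain ⟨α, β, rfl⟩ := Submodule.mem_span_pair.1 ht
      simp at hz ht0
      exact ht0 (by simp [hz.1, hz.2])
    set A1 := δF w + C (c 1) * F + C (c 2) * G with hA1
    set A2 := δG w - C (c 0) * F with hA2
    have heq : A1 * G = F * A2 := by
      have h : δF w * G - F * δG w + (C (c 0) * F ^ 2 + C (c 1) * (F * G) + C (c 2) * G ^ 2) = 0 := hwc
      rw [hA1, hA2]; linear_combination h
    have hF0 : F ≠ 0 := hind.ne_zero 0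
    have hG0 : G ≠ 0 := hind.ne_zero 1
    obtain ⟨q, hq⟩ : F ∣ A1 := hcop.dvd_of_dvd_mul_right ⟨A2, heq⟩
    have hq2 : A2 = q * G := mul_left_cancel₀ hF0 (by rw [← heq, hq]; ring)
    have hqd : q.natDegree = 0 := by
      by_cases hq0 : q = 0
      · simp [hq0]
      have hdmax : F.natDegree = d ∨ G.natDegree = d := by
        obtain ⟨s, hs, hsd⟩ := hV.1.2.2.1
        obtain ⟨α, β, rfl⟩ := Submodule.mem_span_pair.1 hs
        have h3 := natDegree_add_le (α • F) (β • G)
        have h4 := natDegree_smul_le α F
        have h5 := natDegree_smul_le β G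
        rw [hsd] at h3
        rcases le_max_iff.1 h3 with h | h
        · exact Or.inl (by omega)
        · exact Or.inr (by omega)
      have e1 : A1.natDegree ≤ d := by
        refine natDegree_add_le_of_degree_le (natDegree_add_le_of_degree_le (natDegree_Fp_le _ _) ?_) ?_ <;>
          exact (natDegree_C_mul_le _ _).trans (natDegree_Fp_le _ _)
      have e2 : A2.natDegree ≤ d := (natDegree_sub_le _ _).trans
        (max_le (natDegree_Fp_le _ _) ((natDegree_C_mul_le _ _).trans (natDegree_Fp_le _ _)))
      rw [hq, natDegree_mul hF0 hq0] at e1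
      rw [hq2, natDegree_mul hq0 hG0] at e2
      omega
    rw [eq_C_of_natDegree_eq_zero hqd] at hq hq2
    set z := q.coeff 0
    have k1 := congrArg (fun f => f.coeff (a : ℕ)) hq
    have k2 := congrArg (fun f => f.coeff (b : ℕ)) hq
    have k3 := congrArg (fun f => f.coeff (a : ℕ)) hq2
    have k4 := congrArg (fun f => f.coeff (b : ℕ)) hq2
    simp [hA1, hA2, δF, δG, coeff_Fp, wFa, wFb, wGa, wGb, p1, p2, p3, p4] at k1 k2 k3 k4
    have hz : z = 0 := k4.symm
    have hc0 : c 0 = 0 := k3
    have hc1 : c 1 = 0 := by rw [k1, hz]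
    have hc2 : c 2 = 0 := k2
    have hδF : δF w = 0 := by
      simpa [hA1, hc1, hc2, hz] using hq
    have hδG : δG w = 0 := by
      simpa [hA2, hc0, hz] using hq2
    refine ⟨?_, funext fun j => by fin_cases j <;> assumption⟩
    have hPw : ∀ i, w (Sum.inl i) = 0 := fun i => (hloc w hw i).2 hδF hδG
    have hcoef : ∀ cc j, w (Sum.inr (Sum.inl (cc, j))) = 0 := by
      intro cc j
      rw [← coeff_Fp w cc j]
      cases cc
      · rw [show Fp w false = 0 from hδF, coeff_zero]
      · rw [show Fp w true = 0 from hδG, coeff_zero]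
    have hFd : ∀ cc, Fp (dualPt v w) cc = (Fp v cc).map (TrivSqZeroExt.inlHom k k) := fun cc => by
      have : Fp w cc = 0 := by cases cc <;> assumption
      rw [Fp_dual, this, Polynomial.map_zero, mul_zero, add_zero]
    funext s
    rcases s with i | ⟨cc, j⟩ | t
    · exact hPw i
    · exact hcoef cc j
    · cases t
      · have h := congrArg TrivSqZeroExt.snd (eqv_dual e a b hv hw Eqn.lam)
        have hl := point_eq hv Eqn.lam
        simp only [eqv, hFd, ← wronskian_map, coeff_map] at h
        simp [dualPt] at h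
        simp only [eqv, sub_eq_zero] at hl
        rcases h with h | h
        · exact h
        · exact absurd h (fun h' => by rw [h', mul_zero] at hl; exact zero_ne_one hl)
      · have h := congrArg TrivSqZeroExt.snd (eqv_dual e a b hv hw Eqn.disc)
        have hl := point_eq hv Eqn.disc
        have hvd : vdm (fun i => dualPt v w (Sum.inl i)) =
            TrivSqZeroExt.inlHom k k (vdm fun i => v (Sum.inl i)) := by
          simp only [vdm, map_prod]
          refine Finset.prod_congr rfl fun ij _ => ?_
          simp [dualPt, hPw]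
        simp only [eqv, hvd] at h
        simp [dualPt] at h
        simp only [eqv, sub_eq_zero] at hl
        rcases h with h | h
        · exact h
        · exact absurd h (fun h' => by rw [h', mul_zero] at hl; exact zero_ne_one hl)
  let L : (Var d n → k) × (Fin 3 → k) →ₗ[k] k[X] := ω.coprod tgt
  have hbound : ∀ (T : Submodule k (Var d n → k)), T ≤ TanDim29.tan (gens e a b) v →
      ∀ (J : Finset (Fin n)),
      (∀ w ∈ T, ∀ c : Fin 3 → k, (∀ i ∈ J, (ω w + tgt c).eval (P i) = 0) →
        ∀ i, (ω w + tgt c).eval (P i) = 0) →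
      Module.finrank k T ≤ J.card := by
    intro T hT J hJ
    set L' : T × (Fin 3 → k) →ₗ[k] k[X] := L.comp (T.subtype.prodMap LinearMap.id) with hL'
    have hinj' : Function.Injective L' := by
      rw [injective_iff_map_eq_zero]
      rintro ⟨w, c⟩ h
      obtain ⟨h1, h2⟩ := hinj w (hT w.2) c (by simpa [hL', L] using h)
      exact Prod.ext (Subtype.ext h1) h2
    have hle : LinearMap.range L' ≤ omegaSpace (d := d) R e P := by
      rintro _ ⟨⟨w, c⟩, rfl⟩
      have := add_mem (hωmem w (hT w.2)) (htgt c)
      simpa [hL', L] using this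
    obtain ⟨-, h2⟩ := finrank_le_of_omega hPi he (LinearMap.range L') hle J (by
      rintro _ ⟨⟨w, c⟩, rfl⟩ hz
      have := hJ w w.2 c (by simpa [hL', L] using hz)
      simpa [hL', L] using this)
    rw [LinearMap.finrank_range_of_inj hinj', Module.finrank_prod, Module.finrank_fin_fun] at h2
    omega
  refine ⟨?_, fun i j hij hsep => ?_⟩
  · have := hbound _ le_rfl Finset.univ (fun w _ c h i => h i (Finset.mem_univ i))
    simpa using this
  · have hle : TanDim29.tan (gensSep e a b i j) v ≤ TanDim29.tan (gens e a b) v := fun w hw =>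
      TanDim29.mem_tan_iff.2 fun g hg => TanDim29.mem_tan_iff.1 hw g (Or.inl hg)
    have := hbound _ hle (Finset.univ.erase j) ?_
    · rw [Finset.card_erase_of_mem (Finset.mem_univ j), Finset.card_univ, Fintype.card_fin] at this
      have : 0 < n := lt_of_le_of_lt (Nat.zero_le _) j.2
      omega
    intro w hw c hzero l
    by_cases hl : l = j
    · subst hl
      have hzi := hzero i (Finset.mem_erase.2 ⟨hij, Finset.mem_univ i⟩)
      set Fi := F.eval (P i)
      set Gi := G.eval (P i)
      set Fl := F.eval (P l)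
      set Gl := G.eval (P l)
      have hsep' : Fi * Gl - Fl * Gi = 0 := by simpa [sepEq] using hsep
      set κ := x i * Fl + y i * Gl
      have hxyi : x i * Fi + y i * Gi = 1 := hxy i
      have hκF : Fl = κ * Fi := by linear_combination (-Fl) * hxyi - (y i) * hsep'
      have hκG : Gl = κ * Gi := by linear_combination (-Gl) * hxyi + (x i) * hsep'
      have hκ : κ ≠ 0 := fun h => by
        have := hxy l
        rw [show F.eval (P l) = Fl from rfl, show G.eval (P l) = Gl from rfl, hκF, hκG, h] at this
        simp at this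
      have hw0 : w ∈ TanDim29.tan (gens e a b) v := hle hw
      have hd : ∀ m : Fin n, G.eval (P m) * (derivative F).eval (P m) -
          F.eval (P m) * (derivative G).eval (P m) = 0 := by
        intro m
        have h := point_eq hv (Eqn.minor m 1 0 (by have := (he.1 m).1; omega) (by have := (he.1 m).1; omega))
        simp [eqv, taylor_coeff_zero, taylor_coeff_one] at h
        linear_combination h
      have hdual : sepEq (dualPt v w) i l = 0 := by
        have hg : sepEq (fun s => (MvPolynomial.X s : MvPolynomial (Var d n) k)) i l ∈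
            gensSep e a b i l := Or.inr rfl
        have h := TanDim29.aeval_dual v w (sepEq (fun s => MvPolynomial.X s) i l)
        rw [eval_sepEq, hsep, TanDim29.mem_tan_iff.1 hw _ hg] at h
        have h2 := map_sepEq ((MvPolynomial.aeval (dualPt v w) : MvPolynomial (Var d n) k →ₐ[k] DualNumber k)).toRingHom
          (fun s => (MvPolynomial.X s : MvPolynomial (Var d n) k)) i l
        have h3 : ((MvPolynomial.aeval (dualPt v w) : MvPolynomial (Var d n) k →ₐ[k] DualNumber k)).toRingHom ∘ (fun s => MvPolynomial.X s) =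
            dualPt v w := by funext s; simp
        rw [h3] at h2
        rw [← h2]; exact h.trans (by simp)
      simp only [sepEq, ← taylor_coeff_zero, taylor_dual] at hdual
      simp only [taylor_coeff_zero, coeff_add, coeff_C_mul, coeff_derivative, zero_add,
        taylor_coeff_one, Nat.cast_zero, mul_one] at hdual
      have hlin := minor_eps _ eps_sq eps_inl_inj hsep' hdual
      have hω : (ω w).eval (P l) = κ ^ 2 * (ω w).eval (P i) := by
        show (δF w * G - F * δG w).eval (P l) = κ ^ 2 * (δF w * G - F * δG w).eval (P i)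
        simp only [eval_sub, eval_mul]
        have e1 := hd i
        have e2 := hd l
        simp only [show F.eval (P i) = Fi from rfl, show G.eval (P i) = Gi from rfl] at e1
        simp only [show F.eval (P l) = Fl from rfl, show G.eval (P l) = Gl from rfl] at e2
        simp only [show F.eval (P i) = Fi from rfl, show G.eval (P i) = Gi from rfl,
          show F.eval (P l) = Fl from rfl, show G.eval (P l) = Gl from rfl]
        linear_combination -κ * hlin + (κ ^ 2 * w (Sum.inl i)) * e1 - (w (Sum.inl l)) * e2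
          - ((δG w).eval (P l) + w (Sum.inl l) * (derivative G).eval (P l) +
              κ * ((δG w).eval (P i) + w (Sum.inl i) * (derivative G).eval (P i))) * hκF
          + ((δF w).eval (P l) + w (Sum.inl l) * (derivative F).eval (P l) +
              κ * ((δF w).eval (P i) + w (Sum.inl i) * (derivative F).eval (P i))) * hκG
      rw [eval_add, hω]
      have hzi' : (ω w).eval (P i) + (tgt c).eval (P i) = 0 := by rw [← eval_add]; exact hzi
      have htl : (tgt c).eval (P l) = κ ^ 2 * (tgt c).eval (P i) := by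
        show (C (c 0) * F ^ 2 + C (c 1) * (F * G) + C (c 2) * G ^ 2).eval (P l) =
          κ ^ 2 * (C (c 0) * F ^ 2 + C (c 1) * (F * G) + C (c 2) * G ^ 2).eval (P i)
        simp only [eval_add, eval_mul, eval_C, eval_pow, show F.eval (P l) = κ * Fi from hκF,
          show G.eval (P l) = κ * Gi from hκG, show F.eval (P i) = Fi from rfl,
          show G.eval (P i) = Gi from rfl]
        ring
      rw [htl]; linear_combination (κ ^ 2) * hzi'
    · exact hzero l (Finset.mem_erase.2 ⟨hl, Finset.mem_univ l⟩)

end Point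

theorem general [IsAlgClosed k] (p : ℕ) [CharP k p] (d n : ℕ) (e : Fin n → ℕ)
    (he : W4c1limliniiii.Admissible p d e) :
    ∃ Φ : MvPolynomial (Fin n) k, Φ ≠ 0 ∧ ∀ P : Fin n → k, MvPolynomial.eval P Φ ≠ 0 →
      (W4c1limliniiii.ramMaps d P e).Finite ∧
        ∀ V ∈ W4c1limliniiii.ramMaps d P e, ∀ i j : Fin n, i ≠ j →
          ∀ s ∈ V, (s.IsRoot (P i) ∧ s.IsRoot (P j)) → s = 0 := by
  classical
  have htan : ∀ a b : Fin (d + 1), ∀ v : Var d n → k,
      (∀ g ∈ gens e a b, MvPolynomial.eval v g = 0) →
        Module.finrank k (TanDim29.tan (gens e a b) v) ≤ n :=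
    fun a b v hv => (tan_bound he hv).1
  choose Φ1 hΦ1 hfin using fun ab : Fin (d + 1) × Fin (d + 1) =>
    TanDim29.generic_finite (gens e ab.1 ab.2) (fun i : Fin n => (Sum.inl i : Var d n))
      (htan ab.1 ab.2)
  have htanS : ∀ (a b : Fin (d + 1)) (i j : Fin n), i ≠ j → ∀ v : Var d n → k,
      (∀ g ∈ gensSep e a b i j, MvPolynomial.eval v g = 0) →
        Module.finrank k (TanDim29.tan (gensSep e a b i j) v) < n := by
    intro a b i j hij v hv
    refine (tan_bound he (fun g hg => hv g (Or.inl hg))).2 i j hij ?_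
    rw [← eval_sepEq]; exact hv _ (Or.inr rfl)
  have hone : ∀ x : (Fin (d + 1) × Fin (d + 1)) × (Fin n × Fin n), ∃ Φ : MvPolynomial (Fin n) k,
      Φ ≠ 0 ∧ (x.2.1 ≠ x.2.2 → ∀ P : Fin n → k, MvPolynomial.eval P Φ ≠ 0 →
        {v : Var d n → k | (∀ g ∈ gensSep e x.1.1 x.1.2 x.2.1 x.2.2, MvPolynomial.eval v g = 0) ∧
          (v ∘ fun i : Fin n => (Sum.inl i : Var d n)) = P} = ∅) := by
    intro x
    by_cases hij : x.2.1 = x.2.2
    · exact ⟨1, one_ne_zero, fun h => absurd hij h⟩
    obtain ⟨Φ, h0, h⟩ := TanDim29.generic_finite (gensSep e x.1.1 x.1.2 x.2.1 x.2.2)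
      (fun i : Fin n => (Sum.inl i : Var d n)) (fun v hv => (htanS _ _ _ _ hij v hv).le)
    exact ⟨Φ, h0, fun _ P hP => (h P hP).2 (htanS _ _ _ _ hij)⟩
  choose Φ2 hΦ2 hemp using hone
  refine ⟨vdm (fun i => MvPolynomial.X i) * (∏ ab, Φ1 ab) * ∏ x, Φ2 x, mul_ne_zero (mul_ne_zero ?_
    (Finset.prod_ne_zero_iff.2 fun x _ => hΦ1 x)) (Finset.prod_ne_zero_iff.2 fun x _ => hΦ2 x),
    fun P hP => ?_⟩
  · refine Finset.prod_ne_zero_iff.2 fun ij hij => ?_
    rw [Finset.mem_offDiag] at hij
    exact sub_ne_zero.2 fun h => hij.2.2 (MvPolynomial.X_injective h)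
  simp only [map_mul, map_prod, mul_ne_zero_iff, Finset.prod_ne_zero_iff] at hP
  obtain ⟨⟨hD, h1⟩, h2⟩ := hP
  have hD' : vdm P ≠ 0 := by
    intro h
    obtain ⟨ij, hij, hz⟩ := Finset.prod_eq_zero_iff.1 h
    apply hD
    rw [vdm, map_prod]
    exact Finset.prod_eq_zero hij (by simpa using hz)
  have hPi : Function.Injective P := fun i j h => by
    by_contra hne
    exact hD' (Finset.prod_eq_zero (i := (i, j)) (by simp [hne]) (sub_eq_zero.2 h))
  -- every pencil appears in some chart
  have hchart : ∀ V ∈ W4c1limliniiii.ramMaps d P e, ∃ (ab : Fin (d + 1) × Fin (d + 1))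
      (v : Var d n → k), (∀ g ∈ gens e ab.1 ab.2, MvPolynomial.eval v g = 0) ∧
        (v ∘ fun i : Fin n => (Sum.inl i : Var d n)) = P ∧
        Submodule.span k {Fp v false, Fp v true} = V := by
    intro V hV
    have hS := InSchubert.of_mem hV
    obtain ⟨F, G, hind, rfl⟩ := exists_basis_pair hS.2.1
    have hF : F.natDegree ≤ d := natDegree_le_iff_degree_le.2
      (mem_degreeLE.1 (hS.1 (Submodule.subset_span (by simp))))
    have hG : G.natDegree ≤ d := natDegree_le_iff_degree_le.2
      (mem_degreeLE.1 (hS.1 (Submodule.subset_span (by simp))))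
    obtain ⟨a, b, hab⟩ : ∃ a b : Fin (d + 1),
        F.coeff a * G.coeff b - F.coeff b * G.coeff a ≠ 0 := by
      by_contra hno
      push Not at hno
      obtain ⟨a, ha⟩ : ∃ a : Fin (d + 1), F.coeff a ≠ 0 :=
        ⟨⟨F.natDegree, by omega⟩, leadingCoeff_ne_zero.2 (hind.ne_zero 0 : F ≠ 0)⟩
      have hzero : G.coeff a • F + (-F.coeff a) • G = 0 := by
        ext m
        by_cases hm : m < d + 1
        · have := hno a ⟨m, hm⟩
          simp
          linear_combination -this
        · simp [coeff_eq_zero_of_natDegree_lt (show F.natDegree < m by omega),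
            coeff_eq_zero_of_natDegree_lt (show G.natDegree < m by omega)]
      exact ha (neg_eq_zero.1 (LinearIndependent.pair_iff.1 hind _ _ hzero).2)
    set Δ := F.coeff a * G.coeff b - F.coeff b * G.coeff a with hΔ
    set F' := (G.coeff b / Δ) • F + (-F.coeff b / Δ) • G with hF'
    set G' := (-G.coeff a / Δ) • F + (F.coeff a / Δ) • G with hG'
    have hF'V : F' ∈ Submodule.span k {F, G} := Submodule.mem_span_pair.2 ⟨_, _, rfl⟩
    have hG'V : G' ∈ Submodule.span k {F, G} := Submodule.mem_span_pair.2 ⟨_, _, rfl⟩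
    have q1 : F'.coeff a = 1 := by
      simp [hF']; field_simp; rw [hΔ]; ring
    have q2 : F'.coeff b = 0 := by simp [hF']; ring
    have q3 : G'.coeff a = 0 := by simp [hG']; ring
    have q4 : G'.coeff b = 1 := by
      simp [hG']; field_simp; rw [hΔ]; ring
    have hind' : LinearIndependent k ![F', G'] := by
      rw [LinearIndependent.pair_iff]
      intro x y hxy
      have h1 := congrArg (fun f => f.coeff (a : ℕ)) hxy
      have h2 := congrArg (fun f => f.coeff (b : ℕ)) hxy
      simp [q1, q2, q3, q4] at h1 h2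
      exact ⟨h1, h2⟩
    haveI : FiniteDimensional k (Submodule.span k ({F, G} : Set k[X])) :=
      Module.finite_of_finrank_eq_succ hS.2.1
    have hspan : Submodule.span k {F', G'} = Submodule.span k {F, G} := by
      refine Submodule.eq_of_le_of_finrank_eq (Submodule.span_le.2 ?_) ?_
      · rintro t (rfl | rfl) <;> assumption
      · rw [← Matrix.range_cons_cons_empty F' G' ![], finrank_span_eq_card hind', hS.2.1]; rfl
    set cf : Bool → k[X] := fun c => if c then G' else F'
    set v : Var d n → k := Sum.elim P (Sum.elim (fun cj => (cf cj.1).coeff (cj.2 : ℕ))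
      (fun t => if t then (vdm P)⁻¹ else ((wronskian F' G').coeff (∑ i, (e i - 1)))⁻¹)) with hvdef
    have hdeg : ∀ c, (cf c).natDegree ≤ d := by
      intro c
      refine natDegree_le_iff_degree_le.2 (mem_degreeLE.1 (hS.1 ?_))
      cases c <;> assumption
    have hFp : ∀ c, Fp v c = cf c := by
      intro c
      ext m
      by_cases hm : m < d + 1
      · exact coeff_Fp v c ⟨m, hm⟩
      · rw [coeff_eq_zero_of_natDegree_lt (lt_of_le_of_lt (natDegree_Fp_le v c) (by omega)),
          coeff_eq_zero_of_natDegree_lt (lt_of_le_of_lt (hdeg c) (by omega))]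
    have hFf : Fp v false = F' := hFp false
    have hFt : Fp v true = G' := hFp true
    refine ⟨(a, b), v, ?_, rfl, by rw [hFf, hFt, hspan]⟩
    rintro _ ⟨E, rfl⟩
    rw [eval_eqv]
    cases E with
    | piv c t => cases c <;> cases t <;> simp [eqv, hvdef, cf, q1, q2, q3, q4]
    | minor i r s hr hs =>
      have hi : v (Sum.inl i) = P i := rfl
      simp only [eqv, hi, hFf, hFt]
      obtain ⟨t, ht, ht0, hte⟩ := hS.2.2 i
      rw [← hspan] at ht
      obtain ⟨α, β, rfl⟩ := Submodule.mem_span_pair.1 ht
      have hz := (pow_dvd_iff_taylor (P i) (e i) _).1 ((le_rootMultiplicity_iff ht0).1 hte)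
      have hr' := hz r hr
      have hs' := hz s hs
      simp at hr' hs'
      by_cases hα : α = 0
      · have hβ : β ≠ 0 := fun h => ht0 (by simp [hα, h])
        simp [hα, hβ] at hr' hs'
        simp [hr', hs']
      · apply mul_left_cancel₀ hα
        linear_combination ((taylor (P i) G').coeff s) * hr' - ((taylor (P i) G').coeff r) * hs'
    | lam =>
      simp only [eqv, hFf, hFt]
      have hW : (wronskian F' G').coeff (∑ i, (e i - 1)) ≠ 0 := by
        obtain ⟨lam, hl⟩ := schubert_wronskian hPi he hS hspan.symm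
        have hM : (ramPoly P e).coeff (∑ i, (e i - 1)) = 1 := by
          rw [← natDegree_ramPoly P e]; exact (ramPoly_monic P e).coeff_natDegree
        rw [hl, coeff_C_mul, hM, mul_one]
        intro h0
        obtain ⟨X1, hX1, X2, hX2, hne⟩ := hV.2.1
        rw [← hspan] at hX1 hX2
        obtain ⟨s1, s2, rfl⟩ := Submodule.mem_span_pair.1 hX1
        obtain ⟨s3, s4, rfl⟩ := Submodule.mem_span_pair.1 hX2
        rw [wronskian_comb, hl, h0] at hne
        simp at hne
      show _⁻¹ * _ - 1 = 0
      rw [inv_mul_cancel₀ hW, sub_self]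
    | disc =>
      show (vdm P)⁻¹ * vdm P - 1 = 0
      rw [inv_mul_cancel₀ hD', sub_self]
  refine ⟨?_, ?_⟩
  · have hfin' : ∀ ab : Fin (d + 1) × Fin (d + 1), {v : Var d n → k | (∀ g ∈ gens e ab.1 ab.2, MvPolynomial.eval v g = 0) ∧
        (v ∘ fun i : Fin n => (Sum.inl i : Var d n)) = P}.Finite :=
      fun ab => (hfin ab P (h1 ab (Finset.mem_univ _))).1
    refine Set.Finite.subset ((Set.finite_iUnion hfin').image
      (fun v => Submodule.span k {Fp v false, Fp v true})) ?_
    intro V hV
    obtain ⟨ab, v, hv, hvP, hspan⟩ := hchart V hV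
    exact ⟨v, Set.mem_iUnion.2 ⟨ab, hv, hvP⟩, hspan⟩
  · intro V hV i j hij s hs hroots
    obtain ⟨ab, v, hv, hvP, hspan⟩ := hchart V hV
    by_contra hs0
    have hne : sepEq v i j ≠ 0 := by
      intro h
      have hmem : v ∈ {v : Var d n → k | (∀ g ∈ gensSep e ab.1 ab.2 i j, MvPolynomial.eval v g = 0) ∧
          (v ∘ fun i : Fin n => (Sum.inl i : Var d n)) = P} := by
        refine ⟨?_, hvP⟩
        rintro g (hg | rfl)
        · exact hv g hg
        · rw [eval_sepEq]; exact h
      rw [hemp (ab, (i, j)) hij P (h2 _ (Finset.mem_univ _))] at hmem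
      exact hmem
    rw [← hspan] at hs
    obtain ⟨α, β, rfl⟩ := Submodule.mem_span_pair.1 hs
    have hvi : v (Sum.inl i) = P i := congrFun hvP i
    have hvj : v (Sum.inl j) = P j := congrFun hvP j
    obtain ⟨r1, r2⟩ := hroots
    simp at r1 r2
    apply hne
    rw [sepEq, hvi, hvj]
    by_cases hα : α = 0
    · have hβ : β ≠ 0 := fun h => hs0 (by simp [hα, h])
      simp [hα, hβ] at r1 r2
      simp [r1, r2]
    · apply mul_left_cancel₀ hα
      linear_combination ((Fp v true).eval (P j)) * r1 - ((Fp v true).eval (P i)) * r2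

end RamP129
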