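import Groth.Agent.Lib.RamP1_29.Basic

/-!
# Pencils produced from an inseparable limit
-/

set_option autoImplicit false

universe u

namespace RamP129

open Polynomial

variable {k : Type u} [Field k]

/-- the ramification polynomial -/
noncomputable def ramPoly {R : Type u} [CommRing R] {n : ℕ} (P : Fin n → R) (e : Fin n → ℕ) : R[X] :=
  ∏ i, (X - C (P i)) ^ (e i - 1)

theorem ramPoly_monic {R : Type u} [CommRing R] {n : ℕ} (P : Fin n → R) (e : Fin n → ℕ) :
    (ramPoly P e).Monic :=
  monic_prod_of_monic _ _ fun _ _ => (monic_X_sub_C _).pow _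

theorem natDegree_ramPoly {R : Type u} [CommRing R] [Nontrivial R] {n : ℕ} (P : Fin n → R)
    (e : Fin n → ℕ) : (ramPoly P e).natDegree = ∑ i, (e i - 1) := by
  rw [ramPoly, natDegree_prod_of_monic _ _ fun i _ => (monic_X_sub_C _).pow _]
  simp [natDegree_pow']

theorem ramPoly_map {R S : Type u} [CommRing R] [CommRing S] (f : R →+* S) {n : ℕ} (P : Fin n → R)
    (e : Fin n → ℕ) : (ramPoly P e).map f = ramPoly (fun i => f (P i)) e := by
  simp [ramPoly, Polynomial.map_prod]

theorem sum_e_sub_one {p d n : ℕ} {e : Fin n → ℕ} (he : W4c1limliniiii.Admissible p d e) :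
    (∑ i, (e i - 1)) + 2 = 2 * d := by
  have h : (∑ i, (e i - 1)) + n = ∑ i, e i := by
    have h' : ∑ i, ((e i - 1) + 1) = ∑ i, e i :=
      Finset.sum_congr rfl fun i _ => by have := (he.1 i).1; omega
    simpa [Finset.sum_add_distrib] using h'
  have := he.2
  omega

theorem ramPoly_split {n : ℕ} (P : Fin n → k) (hP : Function.Injective P) (e : Fin n → ℕ) (i : Fin n) :
    ∃ u : k[X], ramPoly P e = (X - C (P i)) ^ (e i - 1) * u ∧ u.eval (P i) ≠ 0 := by
  classical
  refine ⟨∏ j ∈ Finset.univ.erase i, (X - C (P j)) ^ (e j - 1),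
    (Finset.mul_prod_erase _ _ (Finset.mem_univ i)).symm, ?_⟩
  rw [eval_prod, Finset.prod_ne_zero_iff]
  intro j hj
  simp only [eval_pow, eval_sub, eval_X, eval_C]
  exact pow_ne_zero _ (sub_ne_zero.2 fun h => (Finset.ne_of_mem_erase hj) (hP h).symm)

theorem ramPoly_eval_ne_zero {n : ℕ} (P : Fin n → k) (e : Fin n → ℕ) (a : k) (ha : ∀ i, P i ≠ a) :
    (ramPoly P e).eval a ≠ 0 := by
  rw [ramPoly, eval_prod, Finset.prod_ne_zero_iff]
  intro i _
  simp only [eval_pow, eval_sub, eval_X, eval_C]
  exact pow_ne_zero _ (sub_ne_zero.2 (Ne.symm (ha i)))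

/-- the order at `P` of a member vanishing at `P` -/
theorem pow_dvd_X_sub_C_mul_wronskian {s t : k[X]} {P : k} {b : ℕ} (hs : (X - C P) ^ b ∣ s) :
    (X - C P) ^ b ∣ (X - C P) * wronskian s t := by
  obtain ⟨v, rfl⟩ := hs
  rw [wronskian, mul_sub, ← mul_assoc (X - C P) (derivative _) t, derivative_pow_mul]
  refine dvd_sub ⟨(X - C P) * v * derivative t, by ring⟩ ?_
  exact ((dvd_mul_right _ _).mul_right t)

theorem natDegree_wronskian_of_ne {c N : k[X]} (hne : (N.natDegree : k) ≠ (c.natDegree : k))
    (hc : c ≠ 0) (hN : N ≠ 0) :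
    (wronskian c N).natDegree + 1 = c.natDegree + N.natDegree := by
  set δ := c.natDegree
  set D := N.natDegree
  have hXW : X * wronskian c N = c * (X * derivative N) - (X * derivative c) * N := by
    rw [wronskian]; ring
  have hco : (X * wronskian c N).coeff (δ + D) =
      c.leadingCoeff * N.leadingCoeff * ((D : k) - (δ : k)) := by
    rw [hXW, coeff_sub, coeff_mul_add_eq_of_natDegree_le le_rfl (natDegree_X_mul_derivative_le N),
      coeff_mul_add_eq_of_natDegree_le (natDegree_X_mul_derivative_le c) le_rfl,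
      X_mul_derivative_coeff, X_mul_derivative_coeff]
    simp only [leadingCoeff]; ring
  have hne0 : (X * wronskian c N).coeff (δ + D) ≠ 0 := by
    rw [hco]
    exact mul_ne_zero (mul_ne_zero (leadingCoeff_ne_zero.2 hc) (leadingCoeff_ne_zero.2 hN))
      (sub_ne_zero.2 hne)
  have hle : (X * wronskian c N).natDegree ≤ δ + D := by
    rw [hXW]
    exact (natDegree_sub_le _ _).trans (max_le
      (natDegree_mul_le.trans (Nat.add_le_add le_rfl (natDegree_X_mul_derivative_le N)))
      (natDegree_mul_le.trans (Nat.add_le_add (natDegree_X_mul_derivative_le c) le_rfl)))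
  have hW : wronskian c N ≠ 0 := fun h => hne0 (by simp [h])
  have heq := le_antisymm hle (le_natDegree_of_ne_zero hne0)
  rwa [natDegree_X_mul hW] at heq

variable [IsAlgClosed k] (p : ℕ) [Fact p.Prime] [CharP k p]

/-- solve `W(c, N) = T` -/
theorem exists_partner {n : ℕ} (P : Fin n → k) (hP : Function.Injective P) (e : Fin n → ℕ)
    (he1 : ∀ i, 1 ≤ e i) (c : k[X]) (hc : c ≠ 0)
    (hroot : ∀ a, c.rootMultiplicity a = 0 ∨
      (∃ i, P i = a ∧ c.rootMultiplicity a = e i) ∨
      (c.rootMultiplicity a = 1 ∧ ∀ i, P i ≠ a))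
    (hex : ∀ j, p ∣ j + 1 → (ramPoly P e * c ^ (p - 2)).coeff j = 0) :
    ∃ N : k[X], wronskian c N = ramPoly P e := by
  have hp2 : 2 ≤ p := (Fact.out : p.Prime).two_le
  obtain ⟨M, hM⟩ := exists_antideriv p _ hex
  obtain ⟨γ, N, hN⟩ := exists_pow_correction p c M hc (fun a => by
    rw [hM]
    have hca : (X - C a) ^ c.rootMultiplicity a ∣ c := pow_rootMultiplicity_dvd c a
    have hpow : (X - C a) ^ ((p - 2) * c.rootMultiplicity a) ∣ c ^ (p - 2) := by
      rw [mul_comm, pow_mul]; exact pow_dvd_pow_of_dvd hca _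
    obtain ⟨q, hq⟩ : ∃ q, p = q + 2 := ⟨p - 2, by omega⟩
    rcases hroot a with h0 | ⟨i, rfl, hi⟩ | ⟨h1, _⟩
    · simp [h0]
    · obtain ⟨u, hu, -⟩ := ramPoly_split P hP e i
      have hT : (X - C (P i)) ^ (e i) ∣ (X - C (P i)) * ramPoly P e := by
        refine ⟨u, ?_⟩
        rw [hu]
        conv_rhs => rw [← Nat.sub_add_cancel (he1 i), pow_succ]
        ring
      rw [hi] at hpow ⊢
      rw [← mul_assoc]
      have h2 := mul_dvd_mul hT hpow
      rw [← pow_add] at h2
      refine dvd_trans (pow_dvd_pow _ (le_of_eq ?_)) h2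
      subst hq; simp; ring
    · rw [h1] at hpow ⊢
      rw [← mul_assoc, mul_comm (X - C a) (ramPoly P e), mul_assoc]
      refine Dvd.dvd.mul_left ?_ _
      refine dvd_trans (pow_dvd_pow _ (le_of_eq ?_)) ((pow_succ' (X - C a) _).dvd.trans (mul_dvd_mul (dvd_refl (X - C a)) hpow))
      subst hq; simp)
  refine ⟨N, ?_⟩
  have hd := congrArg derivative hN
  rw [derivative_sub, derivative_pow, CharP.cast_eq_zero k p, C_0, zero_mul, zero_mul, sub_zero,
    hM, derivative_mul, derivative_pow] at hd
  obtain ⟨q, rfl⟩ : ∃ q, p = q + 2 := ⟨p - 2, by omega⟩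
  have hp0 : ((q : k[X]) + 2) = 0 := by exact_mod_cast CharP.cast_eq_zero k[X] (q + 2)
  simp only [show q + 2 - 1 = q + 1 from rfl, show q + 2 - 2 = q from rfl, Nat.add_sub_cancel,
    map_natCast] at hd
  push_cast at hd
  refine mul_right_cancel₀ (pow_ne_zero q hc) ?_
  rw [hd, wronskian, pow_succ]
  linear_combination -(c ^ q * derivative c * N) * hp0

/-- the pencil of the limit -/
theorem exists_pencil {d n : ℕ} (P : Fin n → k) (hP : Function.Injective P) (e : Fin n → ℕ)
    (he : W4c1limliniiii.Admissible p d e) (hlt : ∀ i, e i < p) (c R : k[X]) (hc : c ≠ 0)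
    (hcd : c.natDegree + p ≤ d) (hmult : ∀ a, c.rootMultiplicity a < p)
    (hode : ramPoly P e * derivative (derivative c) - derivative (ramPoly P e) * derivative c = R * c)
    (hR : ∀ i, (X - C (P i)) ^ (e i - 1) ∣ (X - C (P i)) * R)
    (hRd : (X ^ 2 * R).natDegree ≤ ∑ i, (e i - 1))
    (hRc : (X ^ 2 * R).coeff (∑ i, (e i - 1)) =
      (d : k) * ((d : k) - 1) - ((∑ i, (e i - 1) : ℕ) : k) * (d : k))
    (hex : ∀ j, p ∣ j + 1 → (ramPoly P e * c ^ (p - 2)).coeff j = 0) :
    ∃ m ε : ℕ, 1 ≤ m ∧ m * p ≤ d ∧ ε ≤ 1 ∧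
      ∃ V ∈ W4c1limliniiii.ramMaps (d + m * p - 1 + ε) P e,
        W4c1limliniiii.HasRamIdxInf (d + m * p - 1 + ε) V (2 * m * p - 1 + 2 * ε) := by
  classical
  have hp2 : 2 ≤ p := (Fact.out : p.Prime).two_le
  have he1 : ∀ i, 1 ≤ e i := fun i => by have := (he.1 i).1; omega
  set T := ramPoly P e with hTdef
  set M := ∑ i, (e i - 1) with hMdef
  have hM2 : M + 2 = 2 * d := sum_e_sub_one he
  set δ := c.natDegree with hδ
  have hTdeg : T.natDegree = M := natDegree_ramPoly P e
  have hTmon : T.Monic := ramPoly_monic P e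
  have hTM : T.coeff M = 1 := by rw [← hTdeg]; exact hTmon.coeff_natDegree
  -- the degree congruence
  have hcong : ((δ : k) - d) * ((δ : k) - (d - 1)) = 0 := by
    have h1 := congrArg (fun f => (X ^ 2 * f).coeff (M + δ)) hode
    rw [coeff_euler hTdeg.le le_rfl, ← mul_assoc (X ^ 2) R c,
      coeff_mul_add_eq_of_natDegree_le hRd le_rfl, hRc, hTM] at h1
    have hcl : c.coeff δ ≠ 0 := leadingCoeff_ne_zero.2 hc
    have hMk : (M : k) + 2 = 2 * (d : k) := by exact_mod_cast congrArg (Nat.cast (R := k)) hM2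
    apply mul_left_cancel₀ hcl
    rw [mul_zero]
    linear_combination h1 + (c.coeff δ * ((δ : k) - (d : k))) * hMk
  obtain ⟨m, ε, hm, hε⟩ : ∃ m ε : ℕ, ε ≤ 1 ∧ d = δ + m * p + ε := by
    rcases mul_eq_zero.1 hcong with h | h
    · have : ((d - δ : ℕ) : k) = 0 := by
        rw [Nat.cast_sub (by omega)]; linear_combination -h
      obtain ⟨m, hm⟩ := (CharP.cast_eq_zero_iff k p _).1 this
      exact ⟨m, 0, Nat.zero_le _, by rw [mul_comm m p, ← hm]; omega⟩
    · have : ((d - δ - 1 : ℕ) : k) = 0 := by
        rw [Nat.cast_sub (by omega), Nat.cast_sub (by omega), Nat.cast_one]; linear_combination -h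
      obtain ⟨m, hm⟩ := (CharP.cast_eq_zero_iff k p _).1 this
      exact ⟨m, 1, le_rfl, by rw [mul_comm m p, ← hm]; omega⟩
  have hm1 : 1 ≤ m := by
    rcases Nat.eq_zero_or_pos m with h | h
    · subst h; omega
    · exact h
  -- root multiplicities
  have hroot : ∀ a, c.rootMultiplicity a = 0 ∨ (∃ i, P i = a ∧ c.rootMultiplicity a = e i) ∨
      (c.rootMultiplicity a = 1 ∧ ∀ i, P i ≠ a) := by
    intro a
    rcases Nat.eq_zero_or_pos (c.rootMultiplicity a) with h0 | hpos
    · exact Or.inl h0
    refine Or.inr ?_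
    obtain ⟨v, hv1, hv2⟩ := exists_eq_pow_rootMultiplicity_mul_and_not_dvd c hc a
    have hv : v.eval a ≠ 0 := fun h => hv2 (dvd_iff_isRoot.2 h)
    have hak : ((c.rootMultiplicity a : ℕ) : k) ≠ 0 := fun h =>
      absurd (Nat.le_of_dvd hpos ((CharP.cast_eq_zero_iff k p _).1 h)) (not_le.2 (hmult a))
    by_cases hi : ∃ i, P i = a
    · obtain ⟨i, rfl⟩ := hi
      obtain ⟨u, hu1, hu2⟩ := ramPoly_split P hP e i
      have h := indicial hu1 hu2 hv1 hv (hR i) hode
      refine Or.inl ⟨i, rfl, ?_⟩
      have h' : ((c.rootMultiplicity (P i) : ℕ) : k) = (e i : k) := by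
        have := (mul_eq_zero.1 h).resolve_left hak
        rw [Nat.cast_sub (he1 i)] at this
        linear_combination this
      exact Nat.ModEq.eq_of_lt_of_lt ((CharP.natCast_eq_natCast k p).1 h') (hmult _) (hlt i)
    · push Not at hi
      refine Or.inr ⟨?_, hi⟩
      have h := indicial (w := 0) (u₁ := T) (by simp) (ramPoly_eval_ne_zero P e a hi) hv1 hv
        (by simp) hode
      have h' : ((c.rootMultiplicity a : ℕ) : k) = ((1 : ℕ) : k) := by
        have := (mul_eq_zero.1 h).resolve_left hak
        push_cast at this ⊢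
        linear_combination this
      exact Nat.ModEq.eq_of_lt_of_lt ((CharP.natCast_eq_natCast k p).1 h') (hmult _) (by omega)
  have h2mp : 2 * m * p = 2 * (m * p) := mul_assoc _ _ _
  obtain ⟨N₀, hN₀⟩ := exists_partner p P hP e he1 c hc hroot hex
  -- minimal degree partner
  have hexN : ∃ D, ∃ N : k[X], wronskian c N = T ∧ N.natDegree = D := ⟨_, N₀, hN₀, rfl⟩
  obtain ⟨N, hW, hND⟩ := Nat.find_spec hexN
  have hmin : ∀ N' : k[X], wronskian c N' = T → N.natDegree ≤ N'.natDegree := fun N' h => by
    rw [hND]; exact Nat.find_min' hexN ⟨N', h, rfl⟩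
  have hT0 : T ≠ 0 := hTmon.ne_zero
  have hN0 : N ≠ 0 := fun h => hT0 (by rw [← hW, h]; simp [wronskian])
  have hDδ : δ < N.natDegree := by
    by_contra hle
    push Not at hle
    have := natDegree_wronskian_lt_add (a := c) (b := N) (by rw [hW]; exact hT0)
    rw [hW, hTdeg] at this
    omega
  have hpD : ¬ (p : ℕ) ∣ N.natDegree - δ := by
    rintro ⟨j, hj⟩
    set b := N.leadingCoeff / c.leadingCoeff
    set N' := N - C b * X ^ (p * j) * c with hN'
    have hd0 : derivative (C b * X ^ (p * j)) = 0 := by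
      rw [derivative_C_mul_X_pow, Nat.cast_mul, CharP.cast_eq_zero k p]; simp
    have hW' : wronskian c N' = T := by
      rw [← hW, hN']
      simp only [wronskian, derivative_sub, derivative_mul (f := C b * X ^ (p * j)), hd0]
      ring
    have h0 : N' ≠ 0 := fun h => hT0 (by rw [← hW', h]; simp [wronskian])
    have hb : b ≠ 0 := div_ne_zero (leadingCoeff_ne_zero.2 hN0) (leadingCoeff_ne_zero.2 hc)
    have hne : C b * X ^ (p * j) ≠ (0 : k[X]) :=
      mul_ne_zero (C_ne_zero.2 hb) (pow_ne_zero _ X_ne_zero)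
    have hdeg : (C b * X ^ (p * j) * c).natDegree = N.natDegree := by
      rw [natDegree_mul hne hc, natDegree_C_mul_X_pow _ _ hb]; omega
    have hlead : (C b * X ^ (p * j) * c).leadingCoeff = N.leadingCoeff := by
      rw [leadingCoeff_mul, leadingCoeff_C_mul_X_pow,
        div_mul_cancel₀ _ (leadingCoeff_ne_zero.2 hc)]
    have hlt' : N'.degree < N.degree :=
      degree_sub_lt
        (by rw [degree_eq_natDegree hN0, degree_eq_natDegree (mul_ne_zero hne hc), hdeg]) hN0
        hlead.symm
    exact absurd (hmin N' hW') (not_le.2 (natDegree_lt_natDegree h0 hlt'))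
  have hnk : (N.natDegree : k) ≠ (δ : k) := by
    intro h
    refine hpD ((CharP.cast_eq_zero_iff k p _).1 ?_)
    rw [Nat.cast_sub hDδ.le, h, sub_self]
  have hD : N.natDegree = d + m * p - 1 + ε := by
    have := natDegree_wronskian_of_ne hnk hc hN0
    rw [hW, hTdeg] at this
    omega
  refine ⟨m, ε, hm1, by omega, hm, Submodule.span k {c, N}, ?_, ?_⟩
  · have hind : LinearIndependent k ![c, N] := by
      rw [LinearIndependent.pair_iff]
      intro a b hab
      have h1 : C b * T = 0 := by
        rw [← hW]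
        have : wronskian c (a • c + b • N) = C b * wronskian c N := by
          simp [wronskian, smul_eq_C_mul, derivative_mul]; ring
        rw [← this, hab]; simp [wronskian]
      have hb : b = 0 := C_eq_zero.1 ((mul_eq_zero.1 h1).resolve_right hT0)
      subst hb
      simp [hc] at hab
      exact ⟨hab, rfl⟩
    have hcmem : c ∈ Submodule.span k {c, N} := Submodule.subset_span (by simp)
    have hNmem : N ∈ Submodule.span k {c, N} := Submodule.subset_span (by simp)
    refine ⟨⟨?_, ?_, ⟨N, hNmem, hD⟩, ?_⟩, ⟨c, hcmem, N, hNmem, by rw [hW]; exact hT0⟩, ?_⟩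
    · rw [Submodule.span_le]
      rintro x (rfl | rfl) <;> rw [SetLike.mem_coe, mem_degreeLE, ← natDegree_le_iff_degree_le] <;>
        omega
    · rw [← Matrix.range_cons_cons_empty c N ![], finrank_span_eq_card hind]; rfl
    · intro a
      by_contra hall
      push Not at hall
      have hca : (X - C a) ∣ c := dvd_iff_isRoot.2 (hall c hcmem)
      have hNa : (X - C a) ∣ N := dvd_iff_isRoot.2 (hall N hNmem)
      rcases hroot a with h0 | ⟨i, rfl, hi⟩ | ⟨_, hi⟩
      · exact ((rootMultiplicity_pos hc).2 (hall c hcmem)).ne' h0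
      · obtain ⟨u, hu1, hu2⟩ := ramPoly_split P hP e i
        have hce : (X - C (P i)) ^ e i ∣ c := hi ▸ pow_rootMultiplicity_dvd c (P i)
        obtain ⟨v, hv⟩ := hce
        obtain ⟨v', hv'⟩ := hNa
        have : (X - C (P i)) ^ e i ∣ T := by
          rw [← hW, wronskian]
          refine dvd_sub ⟨v * derivative N, by rw [hv]; ring⟩ ?_
          refine ⟨(C (e i : k) * v + (X - C (P i)) * derivative v) * v', ?_⟩
          rw [hv', ← mul_assoc, mul_comm (derivative c) (X - C (P i)), hv, derivative_pow_mul]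
          ring
        rw [hTdef, hu1, ← Nat.sub_add_cancel (he1 i), pow_succ, Nat.add_sub_cancel] at this
        exact hu2 (dvd_iff_isRoot.1
          ((mul_dvd_mul_iff_left (pow_ne_zero _ (X_sub_C_ne_zero (P i)))).1 this))
      · apply ramPoly_eval_ne_zero P e a hi
        rw [← hTdef, ← hW, wronskian]
        simp [show c.eval a = 0 from hall c hcmem, show N.eval a = 0 from hall N hNmem]
    · intro i
      obtain ⟨u, hu1, hu2⟩ := ramPoly_split P hP e i
      -- any nonzero member has a partner with wronskian a multiple of T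
      have key : ∀ s ∈ Submodule.span k {c, N}, s ≠ 0 →
          (X - C (P i)) ^ s.rootMultiplicity (P i) ∣ (X - C (P i)) * T := by
        intro s hs hs0
        obtain ⟨α, β, rfl⟩ := Submodule.mem_span_pair.1 hs
        have hd := pow_rootMultiplicity_dvd (α • c + β • N) (P i)
        by_cases hα : α = 0
        · subst hα
          have hβ : β ≠ 0 := fun h => hs0 (by simp [h])
          have h := pow_dvd_X_sub_C_mul_wronskian (t := c) hd
          have hw : wronskian ((0 : k) • c + β • N) c = C (-β) * T := by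
            rw [← hW]; simp [wronskian, smul_eq_C_mul, derivative_mul]; ring
          rw [hw, mul_left_comm] at h
          exact (IsUnit.dvd_mul_left (isUnit_C.2 (neg_ne_zero.2 hβ).isUnit)).1 h
        · have h := pow_dvd_X_sub_C_mul_wronskian (t := N) hd
          have hw : wronskian (α • c + β • N) N = C α * T := by
            rw [← hW]; simp [wronskian, smul_eq_C_mul, derivative_mul]; ring
          rw [hw, mul_left_comm] at h
          exact (IsUnit.dvd_mul_left (isUnit_C.2 (Ne.isUnit hα))).1 h
      have hle : ∀ s ∈ Submodule.span k {c, N}, s ≠ 0 → s.rootMultiplicity (P i) ≤ e i := by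
        intro s hs hs0
        have h := key s hs hs0
        by_contra hgt
        push Not at hgt
        have h' := (pow_dvd_pow (X - C (P i)) (show e i + 1 ≤ _ from hgt)).trans h
        rw [hTdef, hu1, ← mul_assoc, ← pow_succ', Nat.sub_add_cancel (he1 i), pow_succ] at h'
        exact hu2 (dvd_iff_isRoot.1
          ((mul_dvd_mul_iff_left (pow_ne_zero _ (X_sub_C_ne_zero (P i)))).1 h'))
      refine ⟨?_, hle⟩
      by_cases hcP : c.eval (P i) = 0
      · refine ⟨c, hcmem, hc, ?_⟩
        rcases hroot (P i) with h0 | ⟨j, hj, hj'⟩ | ⟨_, hj⟩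
        · exact absurd h0 ((rootMultiplicity_pos hc).2 hcP).ne'
        · rw [hj', hP hj]
        · exact absurd rfl (hj i)
      · set s := N - C (N.eval (P i) / c.eval (P i)) * c with hs
        have hsmem : s ∈ Submodule.span k {c, N} := by
          rw [hs, ← smul_eq_C_mul]
          exact Submodule.sub_mem _ hNmem (Submodule.smul_mem _ _ hcmem)
        have hWs : wronskian c s = T := by
          rw [← hW, hs]; simp [wronskian, derivative_mul]; ring
        have hs0 : s ≠ 0 := fun h => hT0 (by rw [← hWs, h]; simp [wronskian])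
        refine ⟨s, hsmem, hs0, ?_⟩
        have hroots : s.IsRoot (P i) := by simp [hs, hcP]
        obtain ⟨v, hv1, hv2⟩ := exists_eq_pow_rootMultiplicity_mul_and_not_dvd s hs0 (P i)
        have hb := hle s hsmem hs0
        set b := s.rootMultiplicity (P i) with hbdef
        have hbpos : 0 < b := (rootMultiplicity_pos hs0).2 hroots
        by_contra hne
        push Not at hne
        have hYW : (X - C (P i)) * T =
            (X - C (P i)) ^ b * (c * (C (b : k) * v + (X - C (P i)) * derivative v) -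
              (X - C (P i)) * derivative c * v) := by
          rw [← hWs, wronskian, mul_sub, mul_left_comm]
          conv_lhs => rw [hv1, derivative_pow_mul]
          ring
        have hdv : (X - C (P i)) ^ (b + 1) ∣ (X - C (P i)) * T := by
          rw [hTdef, hu1, ← mul_assoc, ← pow_succ', Nat.sub_add_cancel (he1 i)]
          exact (pow_dvd_pow _ hne).mul_right _
        rw [hYW, pow_succ, mul_dvd_mul_iff_left (pow_ne_zero _ (X_sub_C_ne_zero (P i))),
          dvd_iff_isRoot] at hdv
        have hbk : (b : k) ≠ 0 := fun h => absurd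
          (Nat.le_of_dvd hbpos ((CharP.cast_eq_zero_iff k p b).1 h)) (by have := hlt i; omega)
        have hv : v.eval (P i) ≠ 0 := fun h => hv2 (dvd_iff_isRoot.2 h)
        simp at hdv
        rcases hdv with h | h | h
        · exact hcP h
        · exact hbk h
        · exact hv h
  · refine ⟨⟨c, Submodule.subset_span (by simp), hc, by omega⟩, fun s hs hs0 => ?_⟩
    obtain ⟨α, β, rfl⟩ := Submodule.mem_span_pair.1 hs
    by_cases hβ : β = 0
    · subst hβ
      have hα : α ≠ 0 := fun h => hs0 (by simp [h])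
      simp only [zero_smul, add_zero, natDegree_smul _ hα]
      omega
    · rw [natDegree_add_eq_right_of_natDegree_lt (by
        rw [natDegree_smul _ hβ]; exact lt_of_le_of_lt (natDegree_smul_le _ _) hDδ),
        natDegree_smul _ hβ]
      omega

end RamP129
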