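import Groth.Agent.Lib.RamP1_29.Limit

/-!
# Inseparable limits of pencils over a discrete valuation ring
-/

set_option autoImplicit false

universe u

namespace RamP129

open Polynomial

/-- Wronskian of two members of a pencil -/
theorem wronskian_comb {R : Type u} [CommRing R] (F G : R[X]) (a b c d : R) :
    wronskian (a • F + b • G) (c • F + d • G) = C (a * d - b * c) * wronskian F G := by
  simp [wronskian, smul_eq_C_mul, derivative_mul]; ring

theorem wronskian_map {R S : Type u} [CommRing R] [CommRing S] (f : R →+* S) (F G : R[X]) :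
    (wronskian F G).map f = wronskian (F.map f) (G.map f) := by
  simp [wronskian, derivative_map, Polynomial.map_sub, Polynomial.map_mul]

/-- facts about a separable pencil with full ramification over a field -/
theorem generic_facts {K : Type u} [Field K] {p d n : ℕ} {e : Fin n → ℕ} (F G : K[X])
    (P : Fin n → K) (hP : Function.Injective P) (he : W4c1limliniiii.Admissible p d e)
    (hV : Submodule.span K {F, G} ∈ W4c1limliniiii.ramMaps d P e) :
    ∃ lam : K, lam ≠ 0 ∧ wronskian F G = C lam * ramPoly P e := by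
  classical
  obtain ⟨⟨hle, -, ⟨s, hs, hsd⟩, -⟩, ⟨A, hA, B, hB, hAB⟩, hram⟩ := hV
  obtain ⟨a, b, rfl⟩ := Submodule.mem_span_pair.1 hA
  obtain ⟨a', b', rfl⟩ := Submodule.mem_span_pair.1 hB
  rw [wronskian_comb] at hAB
  have hW : wronskian F G ≠ 0 := right_ne_zero_of_mul hAB
  have hdvd : ∀ i, (X - C (P i)) ^ (e i - 1) ∣ wronskian F G := by
    intro i
    obtain ⟨t, ht, ht0, hte⟩ := (hram i).1
    have ht' : (X - C (P i)) ^ e i ∣ t :=
      (pow_dvd_pow _ hte).trans (pow_rootMultiplicity_dvd t (P i))
    obtain ⟨α, β, rfl⟩ := Submodule.mem_span_pair.1 ht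
    have key : ∀ (x : K) (u : K[X]), x ≠ 0 → wronskian (α • F + β • G) u = C x * wronskian F G →
        (X - C (P i)) ^ (e i - 1) ∣ wronskian F G := by
      intro x u hx hu
      have h := pow_dvd_X_sub_C_mul_wronskian (t := u) ht'
      rw [hu, mul_left_comm] at h
      have h' := (IsUnit.dvd_mul_left (isUnit_C.2 hx.isUnit)).1 h
      obtain ⟨m, hm⟩ : ∃ m, e i = m + 1 := ⟨e i - 1, by have := (he.1 i).1; omega⟩
      rw [hm, pow_succ'] at h'
      rw [hm, Nat.add_sub_cancel]
      exact (mul_dvd_mul_iff_left (X_sub_C_ne_zero (P i))).1 h'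
    by_cases hα : α = 0
    · have hβ : β ≠ 0 := fun h => ht0 (by simp [hα, h])
      exact key (-β) F (neg_ne_zero.2 hβ) (by
        simp [hα, wronskian, smul_eq_C_mul, derivative_mul]; ring)
    · exact key α G hα (by
        simp [wronskian, smul_eq_C_mul, derivative_mul]; ring)
  have hT : ramPoly P e ∣ wronskian F G := by
    refine Finset.prod_dvd_of_coprime (fun i _ j _ hij => ?_) fun i _ => hdvd i
    exact (pairwise_coprime_X_sub_C hP hij).pow
  have hdeg : (wronskian F G).natDegree + 2 ≤ 2 * d := by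
    obtain ⟨α, β, rfl⟩ := Submodule.mem_span_pair.1 hs
    set s := α • F + β • G with hsdef
    have hs0 : s ≠ 0 := fun h => hW (by
      rw [h, natDegree_zero] at hsd
      have hz : ∀ u ∈ Submodule.span K ({F, G} : Set K[X]), derivative u = 0 := fun u hu => by
        have h' := mem_degreeLE.1 (hle hu)
        rw [← hsd] at h'
        rw [eq_C_of_degree_le_zero h', derivative_C]
      simp [wronskian, hz F (Submodule.subset_span (by simp)),
        hz G (Submodule.subset_span (by simp))])
    have key : ∀ (u : K[X]) (x : K), x ≠ 0 → u ∈ Submodule.span K {F, G} →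
        wronskian u s = C x * wronskian F G → (wronskian F G).natDegree + 2 ≤ 2 * d := by
      intro u x hx hu heq
      set u' := u - C (u.coeff d / s.leadingCoeff) * s with hu'
      have h1 : wronskian u' s = C x * wronskian F G := by
        rw [← heq, hu']; simp [wronskian, derivative_mul]; ring
      have h2 : wronskian u' s ≠ 0 := h1 ▸ mul_ne_zero (C_ne_zero.2 hx) hW
      have h3 := natDegree_wronskian_lt_add h2
      rw [h1, natDegree_C_mul hx, hsd] at h3
      have hu0 : u' ≠ 0 := fun h => h2 (by simp [h, wronskian])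
      have hule : u.natDegree ≤ d := natDegree_le_iff_degree_le.2 (mem_degreeLE.1 (hle hu))
      have hu'le : u'.natDegree ≤ d := (natDegree_sub_le _ _).trans
        (max_le hule ((natDegree_C_mul_le _ _).trans hsd.le))
      have hcoeff : u'.coeff d = 0 := by
        rw [hu', coeff_sub, coeff_C_mul, show s.coeff d = s.leadingCoeff by rw [leadingCoeff, hsd],
          div_mul_cancel₀ _ (leadingCoeff_ne_zero.2 hs0), sub_self]
      have : u'.natDegree ≠ d := fun h => leadingCoeff_ne_zero.2 hu0 (by rw [leadingCoeff, h, hcoeff])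
      omega
    by_cases hβ : β = 0
    · have hα : α ≠ 0 := fun h => hs0 (by simp [hsdef, h, hβ])
      refine key G (-α) (neg_ne_zero.2 hα) (Submodule.subset_span (by simp)) ?_
      conv_lhs => rw [hsdef, show G = (0 : K) • F + (1 : K) • G by simp]
      rw [hβ]; simp [wronskian, smul_eq_C_mul, derivative_mul]; ring
    · refine key F β hβ (Submodule.subset_span (by simp)) ?_
      rw [hsdef]; simp [wronskian, smul_eq_C_mul, derivative_mul]; ring
  obtain ⟨q, hq⟩ := hT
  have hq0 : q ≠ 0 := fun h => hW (by rw [hq, h, mul_zero])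
  rw [hq, natDegree_mul (ramPoly_monic P e).ne_zero hq0, natDegree_ramPoly] at hdeg
  have := sum_e_sub_one he
  have hqd : q.natDegree = 0 := by omega
  refine ⟨q.coeff 0, fun h => hq0 (by rw [eq_C_of_natDegree_eq_zero hqd, h, C_0]), ?_⟩
  rw [hq, mul_comm, ← eq_C_of_natDegree_eq_zero hqd]

variable {A : Type u} [CommRing A] [IsDomain A] [IsDiscreteValuationRing A]

theorem main_of_le [IsAlgClosed (IsLocalRing.ResidueField A)] (p : ℕ) [Fact p.Prime] [CharP A p]
    {K : Type u} [Field K] [Algebra A K] [IsFractionRing A K]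
    {d n : ℕ} {e : Fin n → ℕ} (he : W4c1limliniiii.Admissible p d e) (hlt : ∀ i, e i < p)
    (P : Fin n → A) (F G : A[X]) (hG : G.natDegree ≤ d)
    (hind : LinearIndependent (IsLocalRing.ResidueField A)
      ![F.map (IsLocalRing.residue A), G.map (IsLocalRing.residue A)])
    (hle : (F.map (IsLocalRing.residue A)).natDegree ≤ (G.map (IsLocalRing.residue A)).natDegree)
    (hgen : Submodule.span K {F.map (algebraMap A K), G.map (algebraMap A K)} ∈
      W4c1limliniiii.ramMaps d (fun i => algebraMap A K (P i)) e)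
    (hinsep : ¬ W4c1limliniiii.IsSeparable
      (Submodule.span (IsLocalRing.ResidueField A)
        {F.map (IsLocalRing.residue A), G.map (IsLocalRing.residue A)}))
    (hdist : Function.Injective (fun i => IsLocalRing.residue A (P i))) :
    ∃ m ε : ℕ, 1 ≤ m ∧ m * p ≤ d ∧ ε ≤ 1 ∧
      ∃ V ∈ W4c1limliniiii.ramMaps (d + m * p - 1 + ε) (fun i => IsLocalRing.residue A (P i)) e,
        W4c1limliniiii.HasRamIdxInf (d + m * p - 1 + ε) V (2 * m * p - 1 + 2 * ε) := by
  classical
  set φ := algebraMap A K with hφ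
  set ρ := IsLocalRing.residue A with hρ
  let k := IsLocalRing.ResidueField A
  have hφi : Function.Injective φ := IsFractionRing.injective A K
  have hp2 : 2 ≤ p := (Fact.out : p.Prime).two_le
  haveI : CharP k p :=
    charP_of_injective_ringHom (ρ.comp (ZMod.castHom (dvd_refl p) A)).injective p
  have hPK : Function.Injective (fun i => φ (P i)) := fun i j h =>
    hdist (congrArg ρ (hφi h))
  set T := ramPoly P e with hTdef
  -- the Wronskian
  obtain ⟨lamK, hlamK, hWK⟩ := generic_facts _ _ (fun i => φ (P i)) hPK he hgen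
  rw [← wronskian_map, ← ramPoly_map φ] at hWK
  set lam := (wronskian F G).coeff T.natDegree with hlam
  have hlamφ : φ lam = lamK := by
    have := congrArg (fun f => f.coeff T.natDegree) hWK
    have hTl : T.coeff T.natDegree = 1 := (ramPoly_monic P e).coeff_natDegree
    simp only [← hTdef, coeff_map, coeff_C_mul, hTl, map_one, mul_one] at this
    exact this
  have hW : wronskian F G = C lam * T := map_injective φ hφi (by
    rw [Polynomial.map_mul, map_C, hlamφ, hWK])
  have hlam0 : lam ≠ 0 := fun h => hlamK (by rw [← hlamφ, h, map_zero])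
  -- the second order equation
  obtain ⟨hodeG, hodeF⟩ := ode F G
  set Q := derivative (derivative F) * derivative G - derivative F * derivative (derivative G)
    with hQ
  rw [hW, derivative_C_mul, mul_assoc, mul_assoc, ← mul_sub] at hodeG hodeF
  obtain ⟨π, hπ⟩ := IsDiscreteValuationRing.exists_irreducible A
  obtain ⟨ν, hν⟩ := IsDiscreteValuationRing.associated_pow_irreducible hlam0 hπ
  have hρπ : ρ π = 0 := (IsLocalRing.residue_eq_zero_iff _).2 (by
    rw [IsLocalRing.mem_maximalIdeal]; exact hπ.not_isUnit)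
  have hG0 : G.map ρ ≠ 0 := hind.ne_zero 1
  have hGπ : ¬ C π ∣ G := fun ⟨r, hr⟩ => hG0 (by rw [hr, Polynomial.map_mul, map_C, hρπ]; simp)
  obtain ⟨R, hR⟩ : C lam ∣ Q := by
    have hprime : Prime (C π) := prime_C_iff.2 hπ.prime
    have h1 : C π ^ ν ∣ Q * G := by
      rw [← hodeG, ← C_pow]
      exact (map_dvd C hν.symm.dvd).mul_right _
    have h2 := hprime.pow_dvd_of_dvd_mul_right ν hGπ h1
    rw [← C_pow] at h2
    exact (map_dvd C hν.dvd).trans h2
  rw [hR, mul_assoc] at hodeG hodeF
  have hodeG' := mul_left_cancel₀ (C_ne_zero.2 hlam0) hodeG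
  have hodeF' := mul_left_cancel₀ (C_ne_zero.2 hlam0) hodeF
  -- members over K
  have hmem : ∀ s ∈ Submodule.span K ({F.map φ, G.map φ} : Set K[X]),
      T.map φ * derivative (derivative s) - derivative (T.map φ) * derivative s = R.map φ * s := by
    intro s hs
    obtain ⟨α, β, rfl⟩ := Submodule.mem_span_pair.1 hs
    have h1 := congrArg (Polynomial.map φ) hodeF'
    have h2 := congrArg (Polynomial.map φ) hodeG'
    simp only [Polynomial.map_mul, Polynomial.map_sub, ← derivative_map] at h1 h2
    simp only [derivative_add, smul_eq_C_mul, derivative_C_mul]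
    linear_combination C α * h1 + C β * h2
  obtain ⟨⟨-, -, ⟨s, hs, hsd⟩, hbase⟩, -, -⟩ := hgen
  set M := ∑ i, (e i - 1) with hM
  have hM2 := sum_e_sub_one he
  have hTK : (T.map φ) = ramPoly (fun i => φ (P i)) e := ramPoly_map φ P e
  have hTKd : (T.map φ).natDegree = M := by rw [hTK]; exact natDegree_ramPoly _ _
  have hs0 : s ≠ 0 := by
    rintro rfl
    simp at hsd
    omega
  have hsR := congrArg (fun f => X ^ 2 * f) (hmem s hs)
  have hRdK : (X ^ 2 * R.map φ).natDegree ≤ M := by
    by_cases hR0 : R.map φ = 0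
    · simp [hR0]
    · have h := natDegree_euler_le hTKd.le hsd.le
      rw [hsR, ← mul_assoc, natDegree_mul (mul_ne_zero (pow_ne_zero _ X_ne_zero) hR0) hs0, hsd] at h
      omega
  have hRd : (X ^ 2 * R).natDegree ≤ M := by
    rwa [← natDegree_map_eq_of_injective hφi, Polynomial.map_mul, Polynomial.map_pow, map_X]
  have hRc : (X ^ 2 * R).coeff M = (d : A) * ((d : A) - 1) - (M : A) * (d : A) := by
    apply hφi
    have h := congrArg (fun f => f.coeff (M + d)) hsR
    simp only [coeff_euler hTKd.le hsd.le] at h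
    rw [← mul_assoc, coeff_mul_add_eq_of_natDegree_le hRdK hsd.le] at h
    have hsdne : s.coeff d ≠ 0 := by rw [← hsd]; exact leadingCoeff_ne_zero.2 hs0
    rw [show (T.map φ).coeff M = 1 by
      rw [← hTKd]; exact ((ramPoly_monic P e).map φ).coeff_natDegree] at h
    rw [← coeff_map, Polynomial.map_mul, Polynomial.map_pow, map_X]
    simp only [map_sub, map_mul, map_natCast, map_one]
    apply mul_right_cancel₀ hsdne
    linear_combination -h
  have hRi : ∀ i, (X - C (P i)) ^ (e i - 1) ∣ (X - C (P i)) * R := by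
    intro i
    apply (map_dvd_map φ hφi ((monic_X_sub_C _).pow _)).1
    simp only [Polynomial.map_pow, Polynomial.map_sub, map_X, map_C, Polynomial.map_mul]
    obtain ⟨t, ht, ht0⟩ := hbase (φ (P i))
    obtain ⟨u, hu, -⟩ := ramPoly_split (fun i => φ (P i)) hPK e i
    set Y : K[X] := X - C (φ (P i))
    have h : Y ^ (e i - 1) ∣ Y * R.map φ * t := by
      rw [mul_assoc, ← hmem t ht, hTK, mul_sub]
      refine dvd_sub ?_ ?_
      · rw [hu]; exact ⟨Y * u * derivative (derivative t), by ring⟩
      · rw [← mul_assoc, hu, derivative_pow_mul]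
        exact (dvd_mul_right _ _).mul_right _
    refine IsCoprime.dvd_of_dvd_mul_right (IsCoprime.pow_left ?_) h
    exact (irreducible_X_sub_C _).coprime_iff_not_dvd.2 (fun hd => ht0 (dvd_iff_isRoot.1 hd))
  -- exactness
  have hexA : ∀ j, p ∣ j + 1 → (T * G ^ (p - 2)).coeff j = 0 := by
    intro j hj
    have hid : C lam * (T * G ^ (p - 2)) = derivative (-(F * G ^ (p - 1))) := by
      obtain ⟨q, rfl⟩ : ∃ q, p = q + 2 := ⟨p - 2, by omega⟩
      have hp0 : ((q : A[X]) + 2) = 0 := by exact_mod_cast CharP.cast_eq_zero A[X] (q + 2)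
      rw [← mul_assoc, ← hW, derivative_neg, derivative_mul, derivative_pow, wronskian]
      simp only [show q + 2 - 1 = q + 1 from rfl, show q + 2 - 2 = q from rfl, Nat.add_sub_cancel,
        map_natCast]
      push_cast
      rw [pow_succ]
      linear_combination (F * derivative G * G ^ q) * hp0
    have h := coeff_derivative_eq_zero p (-(F * G ^ (p - 1))) j hj
    rw [← hid, coeff_C_mul] at h
    exact (mul_eq_zero.1 h).resolve_left hlam0
  -- the residue pencil
  set F₀ := F.map ρ with hF₀
  set G₀ := G.map ρ with hG₀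
  have hW0 : wronskian F₀ G₀ = 0 := by
    by_contra h
    exact hinsep ⟨F₀, Submodule.subset_span (by simp), G₀, Submodule.subset_span (by simp), h⟩
  set c₀ := gcd F₀ G₀ with hc₀
  have hc₀0 : c₀ ≠ 0 := fun h => hG0 ((gcd_eq_zero_iff _ _).1 h).2
  obtain ⟨A₀, hA₀⟩ := gcd_dvd_left F₀ G₀
  obtain ⟨B₀, hB₀⟩ := gcd_dvd_right F₀ G₀
  rw [← hc₀] at hA₀ hB₀
  have hcop : IsCoprime A₀ B₀ := by
    rw [← gcd_isUnit_iff]
    obtain ⟨w, hw⟩ := dvd_gcd (mul_dvd_mul_left c₀ (gcd_dvd_left A₀ B₀))
      (mul_dvd_mul_left c₀ (gcd_dvd_right A₀ B₀))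
    rw [← hA₀, ← hB₀, ← hc₀, mul_assoc] at hw
    exact IsUnit.of_mul_eq_one w (mul_left_cancel₀ hc₀0 (hw.symm.trans (mul_one _).symm))
  have hWAB : wronskian A₀ B₀ = 0 := by
    have : wronskian F₀ G₀ = c₀ ^ 2 * wronskian A₀ B₀ := by
      rw [hA₀, hB₀]; simp [wronskian, derivative_mul]; ring
    rw [hW0] at this
    exact (mul_eq_zero.1 this.symm).resolve_left (pow_ne_zero _ hc₀0)
  obtain ⟨hA', hB'⟩ := hcop.wronskian_eq_zero_iff.1 hWAB
  have hsurj : Function.Surjective (frobenius k p) := fun a =>
    IsAlgClosed.exists_pow_nat_eq a (by omega)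
  obtain ⟨β, hβ⟩ := map_surjective (frobenius k p) hsurj (contract p B₀)
  have hBpow : B₀ = β ^ p := by
    rw [← map_frobenius_expand p β, map_expand, hβ, expand_contract p hB' (by omega)]
  have hB00 : B₀ ≠ 0 := fun h => hG0 (by rw [hB₀, h, mul_zero])
  have hβdeg : 0 < β.natDegree := by
    by_contra h0
    have hB0d : B₀.natDegree = 0 := by rw [hBpow, natDegree_pow]; simp only [not_lt, Nat.le_zero] at h0; simp [h0]
    have hA00 : A₀ ≠ 0 := fun h => hind.ne_zero 0 (show F₀ = 0 by rw [hA₀, h, mul_zero])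
    have hA0d : A₀.natDegree = 0 := by
      rw [hA₀, hB₀, natDegree_mul hc₀0 hA00, natDegree_mul hc₀0 hB00] at hle
      omega
    have hb : B₀.coeff 0 ≠ 0 := fun h => hB00 (by rw [eq_C_of_natDegree_eq_zero hB0d, h, C_0])
    have h2 := (LinearIndependent.pair_iff.1 hind (B₀.coeff 0) (-A₀.coeff 0) (by
      rw [hA₀, hB₀, eq_C_of_natDegree_eq_zero hA0d, eq_C_of_natDegree_eq_zero hB0d]
      simp [smul_eq_C_mul]; ring)).1
    exact hb h2
  obtain ⟨z, c, hzc, hmult⟩ := exists_strip p (by omega) c₀ hc₀0
  have hc : c ≠ 0 := fun h => hc₀0 (by rw [hzc, h, mul_zero])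
  set Z := β * z with hZ
  have hGZ : G₀ = Z ^ p * c := by rw [hB₀, hBpow, hzc, hZ, mul_pow]; ring
  have hZ0 : Z ≠ 0 := fun h => hG0 (by rw [hGZ, h, zero_pow (by omega), zero_mul])
  have hcd : c.natDegree + p ≤ d := by
    have h1 : G₀.natDegree = p * Z.natDegree + c.natDegree := by
      rw [hGZ, natDegree_mul (pow_ne_zero _ hZ0) hc, natDegree_pow]
    have h2 : G₀.natDegree ≤ d := (natDegree_map_le).trans hG
    have h3 : β.natDegree ≤ Z.natDegree := by
      rw [hZ, natDegree_mul (fun h => hZ0 (by rw [hZ, h, zero_mul]))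
        (fun h => hZ0 (by rw [hZ, h, mul_zero]))]
      omega
    have : p * 1 ≤ p * Z.natDegree := Nat.mul_le_mul_left p (by omega)
    omega
  have hTk : T.map ρ = ramPoly (fun i => ρ (P i)) e := ramPoly_map ρ P e
  refine exists_pencil p (fun i => ρ (P i)) hdist e he hlt c (R.map ρ) hc hcd hmult ?_
    (fun i => ?_) ?_ ?_ ?_
  · have h := congrArg (Polynomial.map ρ) hodeG'
    simp only [Polynomial.map_mul, Polynomial.map_sub, ← derivative_map] at h
    rw [← hG₀, hGZ, hTk] at h
    have hZd : derivative (Z ^ p) = 0 := by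
      rw [derivative_pow, CharP.cast_eq_zero k p]; simp
    simp only [derivative_mul, hZd, zero_mul, zero_add] at h
    refine mul_left_cancel₀ (pow_ne_zero p hZ0) ?_
    linear_combination h
  · have h := Polynomial.map_dvd ρ (hRi i)
    simpa using h
  · have h : ((X ^ 2 * R).map ρ).natDegree ≤ M := natDegree_map_le.trans hRd
    simpa using h
  · have h := congrArg ρ hRc
    rw [← coeff_map] at h
    simpa [hM] using h
  · intro j hj
    have h : ∀ j, p ∣ j + 1 →
        (ramPoly (fun i => ρ (P i)) e * c ^ (p - 2) * (Z ^ (p - 2)) ^ p).coeff j = 0 := by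
      intro i hi
      have := congrArg ρ (hexA i hi)
      rw [← coeff_map, Polynomial.map_mul, Polynomial.map_pow, hTk, ← hG₀, hGZ, mul_pow,
        map_zero] at this
      rw [mul_assoc, ← pow_mul, mul_comm (p - 2) p, pow_mul, mul_comm (c ^ _)]
      exact this
    exact exact_of_mul_pow p _ _ (pow_ne_zero _ hZ0) h j hj

theorem main [IsAlgClosed (IsLocalRing.ResidueField A)] (p : ℕ) [Fact p.Prime] [CharP A p]
    {K : Type u} [Field K] [Algebra A K] [IsFractionRing A K]
    {d n : ℕ} {e : Fin n → ℕ} (he : W4c1limliniiii.Admissible p d e) (hlt : ∀ i, e i < p)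
    (P : Fin n → A) (F G : A[X]) (hF : F.natDegree ≤ d) (hG : G.natDegree ≤ d)
    (hind : LinearIndependent (IsLocalRing.ResidueField A)
      ![F.map (IsLocalRing.residue A), G.map (IsLocalRing.residue A)])
    (hgen : Submodule.span K {F.map (algebraMap A K), G.map (algebraMap A K)} ∈
      W4c1limliniiii.ramMaps d (fun i => algebraMap A K (P i)) e)
    (hinsep : ¬ W4c1limliniiii.IsSeparable
      (Submodule.span (IsLocalRing.ResidueField A)
        {F.map (IsLocalRing.residue A), G.map (IsLocalRing.residue A)}))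
    (hdist : Function.Injective (fun i => IsLocalRing.residue A (P i))) :
    ∃ m ε : ℕ, 1 ≤ m ∧ m * p ≤ d ∧ ε ≤ 1 ∧
      ∃ V ∈ W4c1limliniiii.ramMaps (d + m * p - 1 + ε) (fun i => IsLocalRing.residue A (P i)) e,
        W4c1limliniiii.HasRamIdxInf (d + m * p - 1 + ε) V (2 * m * p - 1 + 2 * ε) := by
  rcases le_total (F.map (IsLocalRing.residue A)).natDegree
    (G.map (IsLocalRing.residue A)).natDegree with h | h
  · exact main_of_le p he hlt P F G hG hind h hgen hinsep hdist
  · rw [Set.pair_comm] at hgen hinsep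
    exact main_of_le p he hlt P G F hF (LinearIndependent.pair_symm_iff.1 hind) h hgen hinsep hdist

end RamP129
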