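import Groth.Agent.Lib.RamP1_29.Main

/-!
# Schubert conditions and three points
-/

set_option autoImplicit false

universe u

namespace RamP129

open Polynomial

variable {k : Type u} [Field k]

/-- the Schubert conditions -/
def InSchubert (d : ℕ) {n : ℕ} (P : Fin n → k) (e : Fin n → ℕ) (V : Submodule k k[X]) : Prop :=
  V ≤ degreeLE k d ∧ Module.finrank k V = 2 ∧
    ∀ i, ∃ s ∈ V, s ≠ 0 ∧ e i ≤ rootMultiplicity (P i) s

theorem InSchubert.of_mem {d n : ℕ} {P : Fin n → k} {e : Fin n → ℕ} {V : Submodule k k[X]}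
    (h : V ∈ W4c1limliniiii.ramMaps d P e) : InSchubert d P e V :=
  ⟨h.1.1, h.1.2.1, fun i => (h.2.2 i).1⟩

theorem exists_basis_pair {V : Submodule k k[X]} (h : Module.finrank k V = 2) :
    ∃ F G : k[X], LinearIndependent k ![F, G] ∧ V = Submodule.span k {F, G} := by
  haveI : FiniteDimensional k V := Module.finite_of_finrank_eq_succ h
  let b := Module.finBasisOfFinrankEq k V h
  refine ⟨b 0, b 1, ?_, ?_⟩
  · have := b.linearIndependent.map' V.subtype V.ker_subtype
    have e : V.subtype ∘ b = ![(b 0 : k[X]), b 1] := by funext i; fin_cases i <;> rfl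
    rwa [e] at this
  · have h := congrArg (Submodule.map V.subtype) b.span_eq
    rw [Submodule.map_span, ← Set.range_comp, Submodule.map_subtype_top] at h
    refine h.symm.trans (congrArg (Submodule.span k) ?_)
    ext x
    simp [Fin.exists_fin_two, eq_comm]

theorem natDegree_wronskian_le {d : ℕ} {F G : k[X]} (hF : F.natDegree ≤ d) (hG : G.natDegree ≤ d)
    (hW : wronskian F G ≠ 0) : (wronskian F G).natDegree + 2 ≤ 2 * d := by
  have hd : 1 ≤ d := by
    by_contra h0
    apply hW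
    rw [eq_C_of_natDegree_eq_zero (show F.natDegree = 0 by omega),
      eq_C_of_natDegree_eq_zero (show G.natDegree = 0 by omega)]
    simp [wronskian]
  have h := natDegree_wronskian_lt_add hW
  by_cases hFd : F.coeff d = 0
  · have : F.natDegree ≠ d := fun hh => leadingCoeff_ne_zero.2
      (show F ≠ 0 from fun h0 => hW (by simp [h0, wronskian])) (by rw [leadingCoeff, hh, hFd])
    omega
  · set G' := G - C (G.coeff d / F.coeff d) * F with hG'
    have hW' : wronskian F G' = wronskian F G := by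
      rw [hG']; simp [wronskian, derivative_mul]; ring
    have h' := natDegree_wronskian_lt_add (hW'.symm ▸ hW : wronskian F G' ≠ 0)
    rw [hW'] at h'
    have hle : G'.natDegree ≤ d :=
      (natDegree_sub_le _ _).trans (max_le hG ((natDegree_C_mul_le _ _).trans hF))
    have hc : G'.coeff d = 0 := by
      rw [hG', coeff_sub, coeff_C_mul, div_mul_cancel₀ _ hFd, sub_self]
    have : G'.natDegree ≠ d := fun hh => leadingCoeff_ne_zero.2
      (show G' ≠ 0 from fun h0 => hW (by rw [← hW', h0]; simp [wronskian]))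
      (by rw [leadingCoeff, hh, hc])
    omega

theorem exists_partner_member {F G s : k[X]} (hs : s ∈ Submodule.span k {F, G}) (hs0 : s ≠ 0) :
    ∃ t ∈ Submodule.span k {F, G}, ∃ μ : k, μ ≠ 0 ∧ wronskian s t = C μ * wronskian F G := by
  obtain ⟨α, β, rfl⟩ := Submodule.mem_span_pair.1 hs
  by_cases hα : α = 0
  · have hβ : β ≠ 0 := fun h => hs0 (by simp [hα, h])
    refine ⟨F, Submodule.subset_span (by simp), -β, neg_ne_zero.2 hβ, ?_⟩
    simp [hα, wronskian, smul_eq_C_mul, derivative_mul]; ring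
  · refine ⟨G, Submodule.subset_span (by simp), α, hα, ?_⟩
    simp [wronskian, smul_eq_C_mul, derivative_mul]; ring

theorem schubert_wronskian {p d n : ℕ} {P : Fin n → k} (hP : Function.Injective P) {e : Fin n → ℕ}
    (he : W4c1limliniiii.Admissible p d e) {V : Submodule k k[X]} (hV : InSchubert d P e V)
    {F G : k[X]} (hspan : V = Submodule.span k {F, G}) :
    ∃ lam : k, wronskian F G = C lam * ramPoly P e := by
  by_cases hW : wronskian F G = 0
  · exact ⟨0, by simp [hW]⟩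
  subst hspan
  have hdvd : ∀ i, (X - C (P i)) ^ (e i - 1) ∣ wronskian F G := by
    intro i
    obtain ⟨t, ht, ht0, hte⟩ := hV.2.2 i
    obtain ⟨u, -, μ, hμ, hu⟩ := exists_partner_member ht ht0
    have h := pow_dvd_X_sub_C_mul_wronskian (t := u)
      ((pow_dvd_pow _ hte).trans (pow_rootMultiplicity_dvd t (P i)))
    rw [hu, mul_left_comm] at h
    have h' := (IsUnit.dvd_mul_left (isUnit_C.2 hμ.isUnit)).1 h
    obtain ⟨m, hm⟩ : ∃ m, e i = m + 1 := ⟨e i - 1, by have := (he.1 i).1; omega⟩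
    rw [hm, pow_succ'] at h'
    rw [hm, Nat.add_sub_cancel]
    exact (mul_dvd_mul_iff_left (X_sub_C_ne_zero (P i))).1 h'
  obtain ⟨q, hq⟩ : ramPoly P e ∣ wronskian F G :=
    Finset.prod_dvd_of_coprime (fun i _ j _ hij => (pairwise_coprime_X_sub_C hP hij).pow)
      fun i _ => hdvd i
  have hdeg := natDegree_wronskian_le
    (natDegree_le_iff_degree_le.2 (mem_degreeLE.1 (hV.1 (Submodule.subset_span (by simp)))))
    (natDegree_le_iff_degree_le.2 (mem_degreeLE.1 (hV.1 (Submodule.subset_span (by simp))))) hW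
  have hq0 : q ≠ 0 := fun h => hW (by rw [hq, h, mul_zero])
  rw [hq, natDegree_mul (ramPoly_monic P e).ne_zero hq0, natDegree_ramPoly] at hdeg
  have := sum_e_sub_one he
  exact ⟨q.coeff 0, by rw [hq, mul_comm, ← eq_C_of_natDegree_eq_zero (by omega : q.natDegree = 0)]⟩

theorem mem_ramMaps_of_schubert {p d n : ℕ} {P : Fin n → k} (hP : Function.Injective P)
    {e : Fin n → ℕ} (he : W4c1limliniiii.Admissible p d e) {V : Submodule k k[X]}
    (hV : InSchubert d P e V) (hsep : W4c1limliniiii.IsSeparable V) :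
    V ∈ W4c1limliniiii.ramMaps d P e := by
  have he1 : ∀ i, 1 ≤ e i := fun i => by have := (he.1 i).1; omega
  obtain ⟨F, G, -, hspan⟩ := exists_basis_pair hV.2.1
  obtain ⟨lam, hW⟩ := schubert_wronskian hP he hV hspan
  subst hspan
  obtain ⟨A, hA, B, hB, hAB⟩ := hsep
  have hFG : wronskian F G ≠ 0 := by
    obtain ⟨a, b, rfl⟩ := Submodule.mem_span_pair.1 hA
    obtain ⟨a', b', rfl⟩ := Submodule.mem_span_pair.1 hB
    rw [wronskian_comb] at hAB
    exact right_ne_zero_of_mul hAB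
  have hlam : lam ≠ 0 := fun h => hFG (by rw [hW, h]; simp)
  have key : ∀ s ∈ Submodule.span k {F, G}, s ≠ 0 → ∀ i,
      s.rootMultiplicity (P i) ≤ e i := by
    intro s hs hs0 i
    obtain ⟨t, -, μ, hμ, ht⟩ := exists_partner_member hs hs0
    have h := pow_dvd_X_sub_C_mul_wronskian (t := t) (pow_rootMultiplicity_dvd s (P i))
    rw [ht, hW, ← mul_assoc (C μ), ← C_mul, mul_left_comm] at h
    have h := (IsUnit.dvd_mul_left (isUnit_C.2 (mul_ne_zero hμ hlam).isUnit)).1 h
    by_contra hgt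
    push Not at hgt
    have h' := (pow_dvd_pow (X - C (P i)) (show e i + 1 ≤ _ from hgt)).trans h
    obtain ⟨u, hu1, hu2⟩ := ramPoly_split P hP e i
    rw [hu1, ← mul_assoc, ← pow_succ', Nat.sub_add_cancel (he1 i), pow_succ] at h'
    exact hu2 (dvd_iff_isRoot.1
      ((mul_dvd_mul_iff_left (pow_ne_zero _ (X_sub_C_ne_zero (P i)))).1 h'))
  refine ⟨⟨hV.1, hV.2.1, ?_, ?_⟩, ⟨A, hA, B, hB, hAB⟩, fun i => ⟨hV.2.2 i, fun s hs hs0 => key s hs hs0 i⟩⟩
  · by_contra hno
    push Not at hno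
    have hlt : ∀ s ∈ Submodule.span k {F, G}, s.natDegree ≤ d - 1 := fun s hs => by
      have h1 : s.natDegree ≤ d := natDegree_le_iff_degree_le.2 (mem_degreeLE.1 (hV.1 hs))
      have := hno s hs
      omega
    have h := natDegree_wronskian_le (hlt F (Submodule.subset_span (by simp)))
      (hlt G (Submodule.subset_span (by simp))) hFG
    rw [hW, natDegree_C_mul hlam, natDegree_ramPoly] at h
    have := sum_e_sub_one he
    omega
  · intro a
    by_contra hall
    push Not at hall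
    by_cases ha : ∃ i, P i = a
    · obtain ⟨i, rfl⟩ := ha
      obtain ⟨s, hs, hs0, hse⟩ := hV.2.2 i
      obtain ⟨t, ht, μ, hμ, hst⟩ := exists_partner_member hs hs0
      have hsd : (X - C (P i)) ^ e i ∣ s :=
        (pow_dvd_pow _ hse).trans (pow_rootMultiplicity_dvd s (P i))
      obtain ⟨t', ht'⟩ : X - C (P i) ∣ t := dvd_iff_isRoot.2 (hall t ht)
      obtain ⟨v, hv⟩ := hsd
      have hdiv : (X - C (P i)) ^ e i ∣ wronskian s t := by
        rw [wronskian]
        refine dvd_sub ⟨v * derivative t, by rw [hv]; ring⟩ ?_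
        refine ⟨(C (e i : k) * v + (X - C (P i)) * derivative v) * t', ?_⟩
        rw [ht', ← mul_assoc, mul_comm (derivative s), hv, derivative_pow_mul]; ring
      obtain ⟨u, hu1, hu2⟩ := ramPoly_split P hP e i
      rw [hst, hW, ← mul_assoc, ← C_mul] at hdiv
      have hdiv := (IsUnit.dvd_mul_left (isUnit_C.2 (mul_ne_zero hμ hlam).isUnit)).1 hdiv
      rw [hu1, ← Nat.sub_add_cancel (he1 i), pow_succ, Nat.add_sub_cancel] at hdiv
      exact hu2 (dvd_iff_isRoot.1
        ((mul_dvd_mul_iff_left (pow_ne_zero _ (X_sub_C_ne_zero (P i)))).1 hdiv))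
    · push Not at ha
      have h := congrArg (eval a) hW
      simp [wronskian, hall F (Submodule.subset_span (by simp)),
        hall G (Submodule.subset_span (by simp)), hlam] at h
      exact ramPoly_eval_ne_zero P e a ha h

/-- no inseparable pencils of degree less than the characteristic -/
theorem dependent_of_wronskian_eq_zero {p d : ℕ} [CharP k p] (hp : p = 0 ∨ d < p) {F G : k[X]}
    (hF : F.natDegree ≤ d) (hG : G.natDegree ≤ d) (hW : wronskian F G = 0) :
    ¬ LinearIndependent k ![F, G] := by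
  classical
  intro hind
  have hF0 : F ≠ 0 := hind.ne_zero 0
  have hG0 : G ≠ 0 := hind.ne_zero 1
  have hconst : ∀ f : k[X], f.natDegree ≤ d → derivative f = 0 → f.natDegree = 0 := by
    intro f hfd hf
    by_contra hne
    have h := congrArg (fun g => g.coeff (f.natDegree - 1)) hf
    simp only [coeff_derivative, coeff_zero] at h
    have hn : f.natDegree - 1 + 1 = f.natDegree := by omega
    rw [← Nat.cast_succ, Nat.succ_eq_add_one, hn] at h
    rcases mul_eq_zero.1 h with h | h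
    · exact leadingCoeff_ne_zero.2 (fun h0 => hne (by simp [h0])) h
    · rw [CharP.cast_eq_zero_iff k p] at h
      rcases hp with rfl | hp
      · exact hne (zero_dvd_iff.1 h)
      · exact absurd (Nat.le_of_dvd (Nat.pos_of_ne_zero hne) h) (by omega)
  set c := gcd F G
  have hc0 : c ≠ 0 := fun h => hG0 ((gcd_eq_zero_iff _ _).1 h).2
  obtain ⟨A, hA⟩ : c ∣ F := gcd_dvd_left F G
  obtain ⟨B, hB⟩ : c ∣ G := gcd_dvd_right F G
  have hA0 : A ≠ 0 := fun h => hF0 (by rw [hA, h, mul_zero])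
  have hB0 : B ≠ 0 := fun h => hG0 (by rw [hB, h, mul_zero])
  have hcop : IsCoprime A B := by
    rw [← gcd_isUnit_iff]
    obtain ⟨w, hw⟩ := dvd_gcd (mul_dvd_mul_left c (gcd_dvd_left A B))
      (mul_dvd_mul_left c (gcd_dvd_right A B))
    rw [← hA, ← hB, mul_assoc] at hw
    exact IsUnit.of_mul_eq_one w (mul_left_cancel₀ hc0 (hw.symm.trans (mul_one c).symm))
  have hWAB : wronskian A B = 0 := by
    have : wronskian F G = c ^ 2 * wronskian A B := by
      rw [hA, hB]; simp [wronskian, derivative_mul]; ring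
    rw [hW] at this
    exact (mul_eq_zero.1 this.symm).resolve_left (pow_ne_zero _ hc0)
  obtain ⟨hA', hB'⟩ := hcop.wronskian_eq_zero_iff.1 hWAB
  have hAd : A.natDegree = 0 := hconst A (by rw [hA, natDegree_mul hc0 hA0] at hF; omega) hA'
  have hBd : B.natDegree = 0 := hconst B (by rw [hB, natDegree_mul hc0 hB0] at hG; omega) hB'
  have h2 := (LinearIndependent.pair_iff.1 hind (B.coeff 0) (-A.coeff 0) (by
    rw [hA, hB, eq_C_of_natDegree_eq_zero hAd, eq_C_of_natDegree_eq_zero hBd]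
    simp [smul_eq_C_mul]; ring)).1
  exact hB0 (by rw [eq_C_of_natDegree_eq_zero hBd, h2, C_0])

/-! ### three points -/

/-- pairs `(u, v)` spanning the members of the Schubert intersection at three points -/
noncomputable def triple (d : ℕ) (P : Fin 3 → k) (e : Fin 3 → ℕ) : Submodule k (k[X] × k[X]) where
  carrier := {x | (x.1 ∈ degreeLE k d ∧ (X - C (P 0)) ^ e 0 ∣ x.1) ∧
    (x.2 ∈ degreeLE k d ∧ (X - C (P 1)) ^ e 1 ∣ x.2) ∧ (X - C (P 2)) ^ e 2 ∣ x.1 + x.2}
  add_mem' := by
    rintro x y ⟨⟨a1, a2⟩, ⟨b1, b2⟩, c1⟩ ⟨⟨a3, a4⟩, ⟨b3, b4⟩, c2⟩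
    refine ⟨⟨add_mem a1 a3, dvd_add a2 a4⟩, ⟨add_mem b1 b3, dvd_add b2 b4⟩, ?_⟩
    rw [show (x + y).1 + (x + y).2 = (x.1 + x.2) + (y.1 + y.2) by simp; ring]
    exact dvd_add c1 c2
  zero_mem' := by simp
  smul_mem' := by
    rintro a x ⟨⟨a1, a2⟩, ⟨b1, b2⟩, c1⟩
    refine ⟨⟨Submodule.smul_mem _ a a1, ?_⟩, ⟨Submodule.smul_mem _ a b1, ?_⟩, ?_⟩
    · rw [Prod.smul_fst, smul_eq_C_mul]; exact a2.mul_left _
    · rw [Prod.smul_snd, smul_eq_C_mul]; exact b2.mul_left _
    · rw [Prod.smul_fst, Prod.smul_snd, ← smul_add, smul_eq_C_mul]; exact c1.mul_left _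

theorem eq_zero_of_two_dvd {d : ℕ} {P : Fin 3 → k} (hP : Function.Injective P) {e : Fin 3 → ℕ}
    {p : ℕ} (he : W4c1limliniiii.Admissible p d e) {i j : Fin 3} (hij : i ≠ j) {s : k[X]}
    (hs : s ∈ degreeLE k d) (hi : (X - C (P i)) ^ e i ∣ s) (hj : (X - C (P j)) ^ e j ∣ s) :
    s = 0 := by
  by_contra h0
  have h := natDegree_le_of_dvd ((pairwise_coprime_X_sub_C hP hij).pow.mul_dvd hi hj) h0
  rw [natDegree_mul (pow_ne_zero _ (X_sub_C_ne_zero _)) (pow_ne_zero _ (X_sub_C_ne_zero _)),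
    natDegree_pow, natDegree_pow, natDegree_X_sub_C, natDegree_X_sub_C] at h
  have hs' := natDegree_le_iff_degree_le.2 (mem_degreeLE.1 hs)
  have hsum := he.2
  rw [Fin.sum_univ_three] at hsum
  have h0' := (he.1 0).2.1
  have h1' := (he.1 1).2.1
  have h2' := (he.1 2).2.1
  fin_cases i <;> fin_cases j <;> simp_all <;> omega

variable {d p : ℕ} {P : Fin 3 → k} {e : Fin 3 → ℕ}

theorem triple_schubert (hP : Function.Injective P) (he : W4c1limliniiii.Admissible p d e)
    {x : k[X] × k[X]} (hx : x ∈ triple d P e) (hx0 : x ≠ 0) :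
    InSchubert d P e (Submodule.span k {x.1, x.2}) ∧ LinearIndependent k ![x.1, x.2] ∧
      x.1 ≠ 0 ∧ x.2 ≠ 0 ∧ x.1 + x.2 ≠ 0 := by
  obtain ⟨⟨a1, a2⟩, ⟨b1, b2⟩, c1⟩ := hx
  have h1 : x.1 ≠ 0 := by
    intro h
    rw [h, zero_add] at c1
    exact hx0 (Prod.ext h (eq_zero_of_two_dvd hP he (by decide : (1 : Fin 3) ≠ 2) b1 b2 c1))
  have h2 : x.2 ≠ 0 := by
    intro h
    rw [h, add_zero] at c1
    exact hx0 (Prod.ext (eq_zero_of_two_dvd hP he (by decide : (0 : Fin 3) ≠ 2) a1 a2 c1) h)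
  have h3 : x.1 + x.2 ≠ 0 := by
    intro h
    have h' : x.2 = -x.1 := eq_neg_of_add_eq_zero_right h
    rw [h', dvd_neg] at b2
    exact h1 (eq_zero_of_two_dvd hP he (by decide : (0 : Fin 3) ≠ 1) a1 a2 b2)
  have hind : LinearIndependent k ![x.1, x.2] := by
    rw [LinearIndependent.pair_iff' h1]
    intro a ha
    exact h2 (eq_zero_of_two_dvd hP he (by decide : (0 : Fin 3) ≠ 1) b1
      (by rw [← ha, smul_eq_C_mul]; exact a2.mul_left _) b2)
  refine ⟨⟨?_, ?_, ?_⟩, hind, h1, h2, h3⟩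
  · rw [Submodule.span_le]; rintro y (rfl | rfl) <;> assumption
  · rw [← Matrix.range_cons_cons_empty x.1 x.2 ![], finrank_span_eq_card hind]; rfl
  · intro i
    fin_cases i
    · exact ⟨x.1, Submodule.subset_span (by simp), h1, (le_rootMultiplicity_iff h1).2 a2⟩
    · exact ⟨x.2, Submodule.subset_span (by simp), h2, (le_rootMultiplicity_iff h2).2 b2⟩
    · exact ⟨x.1 + x.2, add_mem (Submodule.subset_span (by simp))
        (Submodule.subset_span (by simp)), h3, (le_rootMultiplicity_iff h3).2 c1⟩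

theorem schubert_triple (hP : Function.Injective P) (he : W4c1limliniiii.Admissible p d e)
    {V : Submodule k k[X]} (hV : InSchubert d P e V) :
    ∃ x ∈ triple d P e, x ≠ 0 ∧ Submodule.span k {x.1, x.2} = V := by
  obtain ⟨s0, h0, n0, r0⟩ := hV.2.2 0
  obtain ⟨s1, h1, n1, r1⟩ := hV.2.2 1
  obtain ⟨s2, h2, n2, r2⟩ := hV.2.2 2
  have d0 := (le_rootMultiplicity_iff n0).1 r0
  have d1 := (le_rootMultiplicity_iff n1).1 r1
  have d2 := (le_rootMultiplicity_iff n2).1 r2
  have hind : LinearIndependent k ![s0, s1] := by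
    rw [LinearIndependent.pair_iff' n0]
    intro a ha
    exact n1 (eq_zero_of_two_dvd hP he (by decide : (0 : Fin 3) ≠ 1) (hV.1 h1)
      (by rw [← ha, smul_eq_C_mul]; exact d0.mul_left _) d1)
  haveI : FiniteDimensional k V := Module.finite_of_finrank_eq_succ hV.2.1
  have hspan : Submodule.span k {s0, s1} = V := by
    refine Submodule.eq_of_le_of_finrank_eq (Submodule.span_le.2 ?_) ?_
    · rintro y (rfl | rfl) <;> assumption
    · rw [← Matrix.range_cons_cons_empty s0 s1 ![], finrank_span_eq_card hind, hV.2.1]; rfl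
  rw [← hspan] at h2
  obtain ⟨α, β, hαβ⟩ := Submodule.mem_span_pair.1 h2
  have hmem : (α • s0, β • s1) ∈ triple d P e := by
    refine ⟨⟨Submodule.smul_mem _ _ (hV.1 h0), ?_⟩, ⟨Submodule.smul_mem _ _ (hV.1 h1), ?_⟩, ?_⟩
    · show _ ∣ α • s0
      rw [smul_eq_C_mul]; exact d0.mul_left _
    · show _ ∣ β • s1
      rw [smul_eq_C_mul]; exact d1.mul_left _
    · show _ ∣ α • s0 + β • s1
      rw [hαβ]; exact d2
  have hne : (α • s0, β • s1) ≠ (0 : k[X] × k[X]) := fun h => by
    rw [Prod.ext_iff] at h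
    simp only [Prod.fst_zero, Prod.snd_zero] at h
    exact n2 (by rw [← hαβ, h.1, h.2]; simp)
  obtain ⟨-, -, ha, hb, -⟩ := triple_schubert hP he hmem hne
  refine ⟨_, hmem, hne, ?_⟩
  rw [← hspan, Submodule.span_insert, Submodule.span_insert,
    Submodule.span_singleton_smul_eq (isUnit_iff_ne_zero.2 fun h => ha (by simp [h])),
    Submodule.span_singleton_smul_eq (isUnit_iff_ne_zero.2 fun h => hb (by simp [h]))]

theorem triple_ne_bot (he : W4c1limliniiii.Admissible p d e) :
    ∃ x ∈ triple d P e, x ≠ 0 := by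
  set N0 := d + 1 - e 0
  set N1 := d + 1 - e 1
  let g : k[X] := (X - C (P 2)) ^ e 2
  have hgm : g.Monic := (monic_X_sub_C _).pow _
  let m : (degreeLT k N0 × degreeLT k N1) →ₗ[k] degreeLT k (e 2) :=
    { toFun := fun x => ⟨((X - C (P 0)) ^ e 0 * x.1.1 + (X - C (P 1)) ^ e 1 * x.2.1) %ₘ g, by
        rw [mem_degreeLT]
        refine (degree_modByMonic_lt _ hgm).trans_le (le_of_eq ?_)
        rw [degree_eq_natDegree hgm.ne_zero, natDegree_pow, natDegree_X_sub_C, mul_one]⟩
      map_add' := fun x y => by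
        ext1
        simp only [Prod.fst_add, Prod.snd_add, Submodule.coe_add]
        rw [← add_modByMonic]; congr 1; ring
      map_smul' := fun a x => by
        ext1
        simp only [Prod.smul_fst, Prod.smul_snd, SetLike.val_smul, RingHom.id_apply]
        rw [← smul_modByMonic]; congr 1; simp [smul_eq_C_mul]; ring }
  have hsum := he.2
  rw [Fin.sum_univ_three] at hsum
  have h0' := (he.1 0).2.1
  have h1' := (he.1 1).2.1
  have hker : LinearMap.ker m ≠ ⊥ := by
    haveI : ∀ N, Module.Finite k (degreeLT k N) := fun N =>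
      Module.Finite.equiv (degreeLTEquiv k N).symm
    refine LinearMap.ker_ne_bot_of_finrank_lt ?_
    rw [Module.finrank_prod, (degreeLTEquiv k N0).finrank_eq, (degreeLTEquiv k N1).finrank_eq,
      (degreeLTEquiv k (e 2)).finrank_eq, Module.finrank_fin_fun, Module.finrank_fin_fun,
      Module.finrank_fin_fun]
    omega
  obtain ⟨x, hx, hx0⟩ := Submodule.exists_mem_ne_zero_of_ne_bot hker
  have hdeg : ∀ (i : Fin 3) (N : ℕ), N + e i ≤ d + 1 → ∀ y ∈ degreeLT k N,
      (X - C (P i)) ^ e i * y ∈ degreeLE k d := by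
    intro i N hN y hy
    by_cases hy0 : y = 0
    · simp [hy0]
    rw [mem_degreeLE, ← natDegree_le_iff_degree_le,
      natDegree_mul (pow_ne_zero _ (X_sub_C_ne_zero _)) hy0, natDegree_pow, natDegree_X_sub_C]
    have := (natDegree_lt_iff_degree_lt hy0).2 (mem_degreeLT.1 hy)
    omega
  refine ⟨((X - C (P 0)) ^ e 0 * x.1.1, (X - C (P 1)) ^ e 1 * x.2.1),
    ⟨⟨hdeg 0 N0 (by omega) _ x.1.2, dvd_mul_right _ _⟩,
      ⟨hdeg 1 N1 (by omega) _ x.2.2, dvd_mul_right _ _⟩, ?_⟩, ?_⟩
  · have := congrArg Subtype.val (LinearMap.mem_ker.1 hx)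
    exact (modByMonic_eq_zero_iff_dvd hgm).1 this
  · intro h
    apply hx0
    rw [Prod.ext_iff] at h
    refine Prod.ext (Subtype.ext ?_) (Subtype.ext ?_)
    · exact (mul_eq_zero.1 h.1).resolve_left (pow_ne_zero _ (X_sub_C_ne_zero _))
    · exact (mul_eq_zero.1 h.2).resolve_left (pow_ne_zero _ (X_sub_C_ne_zero _))

theorem triple_cross (hP : Function.Injective P) (he : W4c1limliniiii.Admissible p d e)
    {x y : k[X] × k[X]} (hx : x ∈ triple d P e) (hy : y ∈ triple d P e) :
    x.1 * y.2 = y.1 * x.2 := by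
  obtain ⟨⟨a1, a2⟩, ⟨b1, b2⟩, c1⟩ := hx
  obtain ⟨⟨a3, a4⟩, ⟨b3, b4⟩, c2⟩ := hy
  set D := x.1 * y.2 - y.1 * x.2 with hD
  have hdvd : ∀ i : Fin 3, (X - C (P i)) ^ e i ∣ D := by
    intro i
    fin_cases i
    · exact dvd_sub (a2.mul_right _) (a4.mul_right _)
    · exact dvd_sub (b4.mul_left _) (b2.mul_left _)
    · rw [hD, show x.1 * y.2 - y.1 * x.2 = (x.1 + x.2) * y.2 - x.2 * (y.1 + y.2) by ring]
      exact dvd_sub (c1.mul_right _) (c2.mul_left _)
  by_contra h
  have h0 : D ≠ 0 := sub_ne_zero.2 h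
  have hle := natDegree_le_of_dvd (Finset.prod_dvd_of_coprime
    (s := fun i => (X - C (P i)) ^ e i) (t := Finset.univ)
    (fun i _ j _ hij => (pairwise_coprime_X_sub_C hP hij).pow) fun i _ => hdvd i) h0
  rw [natDegree_prod_of_monic _ _ fun i _ => (monic_X_sub_C _).pow _] at hle
  simp [natDegree_pow'] at hle
  have hd : D.natDegree ≤ 2 * d := by
    refine (natDegree_sub_le _ _).trans (max_le ?_ ?_) <;>
      refine natDegree_mul_le.trans ?_
    · have := natDegree_le_iff_degree_le.2 (mem_degreeLE.1 a1)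
      have := natDegree_le_iff_degree_le.2 (mem_degreeLE.1 b3)
      omega
    · have := natDegree_le_iff_degree_le.2 (mem_degreeLE.1 a3)
      have := natDegree_le_iff_degree_le.2 (mem_degreeLE.1 b1)
      omega
  have := he.2
  omega

variable [IsAlgClosed k]

theorem triple_unique (hP : Function.Injective P) (he : W4c1limliniiii.Admissible p d e)
    {x y : k[X] × k[X]} (hx : x ∈ triple d P e) (hy : y ∈ triple d P e) (hx0 : x ≠ 0)
    (hy0 : y ≠ 0)
    (hV : Submodule.span k {x.1, x.2} ∈ W4c1limliniiii.ramMaps d P e) :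
    Submodule.span k {y.1, y.2} = Submodule.span k {x.1, x.2} := by
  obtain ⟨-, hind, h1, h2, -⟩ := triple_schubert hP he hx hx0
  obtain ⟨⟨-, -, ⟨s, hs, hsd⟩, hbase⟩, -, -⟩ := hV
  have hcop : IsCoprime x.1 x.2 := by
    rw [Polynomial.isCoprime_iff_aeval_ne_zero_of_isAlgClosed (K := k) (k := k)]
    intro a
    by_contra hab
    push Not at hab
    obtain ⟨t, ht, ht0⟩ := hbase a
    obtain ⟨α, β, rfl⟩ := Submodule.mem_span_pair.1 ht
    exact ht0 (by simp at hab; simp [hab.1, hab.2])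
  have hc := triple_cross hP he hx hy
  obtain ⟨q, hq⟩ : x.1 ∣ y.1 := hcop.dvd_of_dvd_mul_right ⟨y.2, hc.symm⟩
  have hq2 : y.2 = x.2 * q := by
    rw [hq] at hc
    exact mul_left_cancel₀ h1 (by rw [hc]; ring)
  have hqd : q.natDegree = 0 := by
    obtain ⟨α, β, rfl⟩ := Submodule.mem_span_pair.1 hs
    have hq0 : q ≠ 0 := fun h => hy0 (Prod.ext (by rw [hq, h, mul_zero]; rfl)
      (by rw [hq2, h, mul_zero]; rfl))
    have h : (α • y.1 + β • y.2).natDegree ≤ d := by
      have hm := (triple_schubert hP he hy hy0).1.1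
        (Submodule.mem_span_pair.2 ⟨α, β, rfl⟩)
      exact natDegree_le_iff_degree_le.2 (mem_degreeLE.1 hm)
    have hd2 : 2 ≤ d := by have := (he.1 0); omega
    have hs0 : α • x.1 + β • x.2 ≠ 0 := fun h => by rw [h, natDegree_zero] at hsd; omega
    rw [hq, hq2, ← smul_mul_assoc, ← smul_mul_assoc, ← add_mul, natDegree_mul hs0 hq0, hsd] at h
    omega
  have hq0' : q.coeff 0 ≠ 0 := fun h => hy0 (Prod.ext
    (by rw [hq, eq_C_of_natDegree_eq_zero hqd, h, C_0, mul_zero]; rfl)
    (by rw [hq2, eq_C_of_natDegree_eq_zero hqd, h, C_0, mul_zero]; rfl))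
  rw [hq, hq2, eq_C_of_natDegree_eq_zero hqd, mul_comm, mul_comm x.2, ← smul_eq_C_mul,
    ← smul_eq_C_mul, Submodule.span_insert, Submodule.span_insert,
    Submodule.span_singleton_smul_eq (isUnit_iff_ne_zero.2 hq0'),
    Submodule.span_singleton_smul_eq (isUnit_iff_ne_zero.2 hq0')]

end RamP129
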